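import Cfsg.Agent.Lib.Helper53.KS18Defs
import Cfsg.Agent.Lib.Helper37.Extremal

set_option autoImplicit false
set_option linter.unusedSectionVars false
set_option linter.unusedVariables false
set_option linter.style.haveILetI false

namespace Cfsg.Agent.Lib.Helper66.KS18

open Cfsg Subgroup
open Cfsg.Agent.Lib.Helper53.JC (cjj QQ)
open Cfsg.Agent.Lib.Helper53.SA2 (BHyp)
open Cfsg.Agent.Lib.Helper53.KS18

variable {G : Type*} [Group G] [Finite G]

theorem ext_card_mul {H K : Subgroup G} (h : H ≤ K) : Nat.card H * H.relIndex K = Nat.card K := by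
  have := Subgroup.relIndex_mul_relIndex ⊥ H K bot_le h
  rwa [relIndex_bot_left, relIndex_bot_left] at this

theorem ext_mem_cjj {a x : G} {K : Subgroup G} (hx : x ∈ K) : a * x * a⁻¹ ∈ cjj a K :=
  ⟨x, hx, by simp [MulAut.conj_apply]⟩

/-- `x ∈ C(v)` and `x ∈ K` imply `x ∈ cjj v K` -/
theorem ext_mem_cjj_of_comm {v x : G} {K : Subgroup G} (hx : x ∈ K) (hc : v * x = x * v) :
    x ∈ cjj v K := by
  have := ext_mem_cjj (a := v) hx
  rwa [hc, mul_inv_cancel_right] at this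

theorem ext_card_D {P₁ P₂ T : Subgroup G} {c₁ c₂ : G} (f : CBF P₁ P₂ T c₁ c₂) :
    Nat.card ↥(QQ P₁ ⊓ QQ P₂) ≤ 4 := by
  classical
  have hsub : ((QQ P₁ ⊓ QQ P₂ : Subgroup G) : Set G)
      ⊆ (({1, c₁, c₂, c₁ * c₂} : Finset G) : Set G) := by
    intro x hx
    have := (f.D x).1 hx
    simpa using this
  have e1 : Nat.card ↥(QQ P₁ ⊓ QQ P₂) = ((QQ P₁ ⊓ QQ P₂ : Subgroup G) : Set G).ncard := by
    rw [← Nat.card_coe_set_eq]; rfl
  rw [e1]
  calc _ ≤ (({1, c₁, c₂, c₁ * c₂} : Finset G) : Set G).ncard :=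
        Set.ncard_le_ncard hsub (Finset.finite_toSet _)
    _ = ({1, c₁, c₂, c₁ * c₂} : Finset G).card := Set.ncard_coe_finset _
    _ ≤ 4 := Finset.card_le_four

-- [EXT]
theorem ext {P₁ P₂ T : Subgroup G} {c₁ c₂ : G} (c : CB P₁ P₂ T c₁ c₂) (f : CBF P₁ P₂ T c₁ c₂)
    (S : Sylow 2 G) (hTS : T ≤ (S : Subgroup G)) (sf : SF P₁ P₂ T (S : Subgroup G)) {g : G}
    (hv : g * c₁ * g⁻¹ ∈ (S : Subgroup G))
    (hext : ¬ 2 ∣ ((S : Subgroup G) ⊓ centralizer {g * c₁ * g⁻¹}).relIndex (centralizer {g * c₁ * g⁻¹})) :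
    g * c₁ * g⁻¹ = c₁ ∨ g * c₁ * g⁻¹ = c₂ := by
  classical
  obtain ⟨v, hvdef⟩ : ∃ v, v = g * c₁ * g⁻¹ := ⟨_, rfl⟩
  rw [← hvdef] at hv hext ⊢
  have hCv : centralizer {v} = cjj g P₁ := by
    rw [hvdef, ← Cfsg.Agent.Lib.Helper37.map_conj_centralizer_singleton, f.Cc₁]
  have hCcard : Nat.card (centralizer ({v} : Set G)) = 48 := by
    rw [hCv, card_map_of_injective (MulAut.conj g).injective, f.cardP₁]
  have hcc : c₁ * c₁ = 1 := c.c0.e₁ c₁ c.c₁Q
  have hvv : v * v = 1 := by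
    rw [hvdef]
    calc g * c₁ * g⁻¹ * (g * c₁ * g⁻¹) = g * (c₁ * c₁) * g⁻¹ := by group
      _ = 1 := by rw [hcc]; group
  have hv1 : v ≠ 1 := by
    intro h
    apply c.c₁1
    have : c₁ = g⁻¹ * v * g := by rw [hvdef]; group
    rw [this, h]; group
  obtain ⟨X, hX⟩ : ∃ X : Subgroup G, X = (S : Subgroup G) ⊓ centralizer {v} := ⟨_, rfl⟩
  rw [← hX] at hext
  have hXS : X ≤ (S : Subgroup G) := hX ▸ inf_le_left
  have hXC : X ≤ centralizer {v} := hX ▸ inf_le_right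
  have hXp : IsPGroup 2 X := S.2.to_le hXS
  have hvX : v ∈ X := by
    rw [hX]
    exact mem_inf.2 ⟨hv, mem_centralizer_singleton_iff.2 rfl⟩
  have hcomm : ∀ x ∈ X, v * x = x * v := by
    intro x hx
    have := hXC hx
    rw [mem_centralizer_singleton_iff] at this
    exact this.symm
  have hXcard : Nat.card X = 16 := by
    have h1 := ext_card_mul hXC
    rw [hCcard] at h1
    obtain ⟨k, hk⟩ := (IsPGroup.iff_card (p := 2)).1 hXp
    rw [hk] at h1 ⊢
    have hk6 : k < 6 := by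
      by_contra hk6
      push Not at hk6
      have h2 : 2 ^ 6 ≤ 2 ^ k := Nat.pow_le_pow_right (by norm_num) hk6
      have h3 : 2 ^ k ≤ 48 := Nat.le_of_dvd (by norm_num) ⟨_, h1.symm⟩
      omega
    interval_cases k <;> omega
  have hTP₁ : T ≤ P₁ := c.c0.h.syl₁.1
  -- (i)
  have hvT : v ∈ T := by
    by_contra hvT
    have h1 : (X ⊓ T).relIndex X = 2 := by
      rw [relIndex_eq_two_iff]
      refine ⟨v, hvX, fun b hb => ?_⟩
      by_cases hbT : b ∈ T
      · refine Or.inr ⟨mem_inf.2 ⟨hb, hbT⟩, fun h => hvT ?_⟩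
        have := T.mul_mem (T.inv_mem hbT) (mem_inf.1 h).2
        rwa [inv_mul_cancel_left] at this
      · refine Or.inl ⟨mem_inf.2 ⟨X.mul_mem hb hvX, sf.ind b (hXS hb) v hv hbT hvT⟩, fun h => ?_⟩
        exact hbT (mem_inf.1 h).2
    have h2 := ext_card_mul (inf_le_left : X ⊓ T ≤ X)
    rw [h1, hXcard] at h2
    have h3 : (QQ P₁).relIndex (X ⊓ T) ≤ 2 := by
      rw [← f.ind₁]
      exact relIndex_le_of_le_right inf_le_right (by rw [f.ind₁]; norm_num)
    have h4 := ext_card_mul (inf_le_right : QQ P₁ ⊓ (X ⊓ T) ≤ X ⊓ T)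
    rw [inf_relIndex_right] at h4
    have h5 : 4 ≤ Nat.card ↥(QQ P₁ ⊓ (X ⊓ T)) := by
      by_contra hlt
      push Not at hlt
      have : Nat.card ↥(QQ P₁ ⊓ (X ⊓ T)) * (QQ P₁).relIndex (X ⊓ T) ≤ 3 * 2 :=
        Nat.mul_le_mul (by omega) h3
      omega
    have h6 : QQ P₁ ⊓ (X ⊓ T) ≤ QQ P₁ ⊓ QQ P₂ := by
      intro q hq
      obtain ⟨hq1, hq2⟩ := mem_inf.1 hq
      refine mem_inf.2 ⟨hq1, ?_⟩
      rw [← sf.sw₁ v hv hvT]
      exact ext_mem_cjj_of_comm hq1 (hcomm q (mem_inf.1 hq2).1)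
    have h7 : QQ P₁ ⊓ (X ⊓ T) = QQ P₁ ⊓ QQ P₂ :=
      eq_of_le_of_card_ge h6 ((ext_card_D f).trans h5)
    have h8 : c₁ ∈ QQ P₁ ⊓ (X ⊓ T) := by
      rw [h7]; exact (f.D c₁).2 (Or.inr (Or.inl rfl))
    have h9 : c₁ ∈ X := (mem_inf.1 (mem_inf.1 h8).2).1
    have h10 : v ∈ P₁ := by
      rw [← f.Cc₁, mem_centralizer_singleton_iff]
      exact hcomm c₁ h9
    have h11 : T ⊔ zpowers v = T := by
      apply f.max₁
      · exact S.2.to_le (sup_le hTS (by rw [zpowers_le]; exact hv))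
      · exact le_sup_left
      · exact sup_le hTP₁ (by rw [zpowers_le]; exact h10)
    apply hvT
    rw [← h11]
    exact (le_sup_right : zpowers v ≤ _) (mem_zpowers v)
  -- (ii)
  have hvD : v ∈ QQ P₁ ⊓ QQ P₂ := by
    by_cases hXT : X ≤ T
    · have hXeq : X = T := eq_of_le_of_card_ge hXT (by rw [f.cardT, hXcard])
      have hcT : ∀ x ∈ T, x * v = v * x := by
        intro x hx
        rw [← hXeq] at hx
        exact (hcomm x hx).symm
      refine mem_inf.2 ⟨f.CQ₁ (mem_inf.2 ⟨hvT, ?_⟩), f.CQ₂ (mem_inf.2 ⟨hvT, ?_⟩)⟩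
      · rw [mem_centralizer_iff]
        intro x hx
        exact hcT x (f.QT₁ hx)
      · rw [mem_centralizer_iff]
        intro x hx
        exact hcT x (f.QT₂ hx)
    · obtain ⟨a, haX, haT⟩ := SetLike.not_le_iff_exists.1 hXT
      have hav : a * v = v * a := (hcomm a haX).symm
      rcases f.inv v hvT hvv with h | h
      · refine mem_inf.2 ⟨h, ?_⟩
        rw [← sf.sw₁ a (hXS haX) haT]
        exact ext_mem_cjj_of_comm h hav
      · refine mem_inf.2 ⟨?_, h⟩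
        rw [← sf.sw₂ a (hXS haX) haT]
        exact ext_mem_cjj_of_comm h hav
  -- (iii)
  rcases (f.D v).1 hvD with h | h | h | h
  · exact absurd h hv1
  · exact Or.inl h
  · exact Or.inr h
  · exfalso
    have hTC : T ≤ cjj g P₁ := by
      rw [← hCv]
      intro x hx
      rw [mem_centralizer_singleton_iff]
      have := f.Dc hvD
      rw [mem_centralizer_iff] at this
      exact this x hx
    have h1 : v ∈ ⁅cjj g P₁, cjj g P₁⁆ := by
      rw [h]
      exact commutator_mono hTC hTC f.zc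
    rw [← map_commutator] at h1
    obtain ⟨y, hy, hyv⟩ := h1
    apply f.nc₁
    have : y = c₁ := by
      have h2 : g * y * g⁻¹ = g * c₁ * g⁻¹ := by
        rw [← hvdef, ← hyv]; simp [MulAut.conj_apply]
      exact mul_left_cancel (mul_right_cancel h2)
    rw [← this]
    exact hy

end Cfsg.Agent.Lib.Helper66.KS18
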