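import Mathlib

set_option autoImplicit false
set_option linter.unusedSectionVars false
set_option linter.unusedVariables false
set_option linter.style.haveILetI false

namespace Cfsg.Agent.Lib.Helper66.PSA

open Module LinearMap

/-- CNT -/
theorem dvd_of_fpf {F V : Type*} [Field F] [Fintype F] [AddCommGroup V] [Module F V]
    [FiniteDimensional F V] (g : End F V) {r : ℕ} (hr : r.Prime) (hg : g ^ r = 1)
    (hfix : ∀ v, g v = v → v = 0) : r ∣ Fintype.card F ^ finrank F V - 1 := by
  classical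
  haveI : Fact r.Prime := ⟨hr⟩
  haveI : Finite V := Module.finite_of_finite F
  haveI : Fintype V := Fintype.ofFinite V
  have hcard : Fintype.card V = Fintype.card F ^ finrank F V := by
    rw [← Nat.card_eq_fintype_card, Module.natCard_eq_pow_finrank (K := F), Nat.card_eq_fintype_card]
  let f : Function.End V := fun v => g v
  have hf : f ^ r ^ 1 = 1 := by
    rw [pow_one]
    funext v
    have h1 : ∀ n : ℕ, (f ^ n) v = (g ^ n) v := by
      intro n
      induction n with
      | zero => rfl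
      | succ n ih =>
        rw [pow_succ', pow_succ', Module.End.mul_apply, ← ih]
        rfl
    rw [h1, hg]
    rfl
  have h2 := Equiv.Perm.card_fixedPoints_modEq hf
  have h3 : Fintype.card (Function.fixedPoints f) = 1 := by
    rw [Fintype.card_eq_one_iff]
    refine ⟨⟨0, map_zero g⟩, fun y => Subtype.ext (hfix y.1 y.2)⟩
  rw [h3, hcard] at h2
  exact (Nat.modEq_iff_dvd' (Nat.one_le_pow _ _ Fintype.card_pos)).1 h2.symm

/-- MIN -/
theorem exists_min_inv {F V : Type*} [Field F] [AddCommGroup V] [Module F V]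
    [FiniteDimensional F V] [Nontrivial V] (T : End F V) :
    ∃ U : Submodule F V, U ≠ ⊥ ∧ (∀ u ∈ U, T u ∈ U) ∧
      ∀ U' : Submodule F V, U' ≤ U → (∀ u ∈ U', T u ∈ U') → U' = ⊥ ∨ U' = U := by
  classical
  have hex : ∃ n : ℕ, ∃ U : Submodule F V, U ≠ ⊥ ∧ (∀ u ∈ U, T u ∈ U) ∧ finrank F U = n :=
    ⟨_, ⊤, top_ne_bot, fun _ _ => Submodule.mem_top, rfl⟩
  obtain ⟨U, hU0, hUT, hUn⟩ := Nat.find_spec hex
  refine ⟨U, hU0, hUT, fun U' hle hT' => ?_⟩
  by_cases h0 : U' = ⊥
  · exact Or.inl h0
  · right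
    have hmin : Nat.find hex ≤ finrank F U' := Nat.find_min' hex ⟨U', h0, hT', rfl⟩
    exact Submodule.eq_of_le_of_finrank_le hle (by rw [hUn]; exact hmin)

end Cfsg.Agent.Lib.Helper66.PSA
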