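import Mathlib
import Cfsg.Agent.Lib.Helper61.ZassDefs
import Cfsg.Agent.Lib.Helper75.FrobTheory
import Cfsg.Agent.Lib.Helper75.FrobConstruct
import Cfsg.Agent.S0042

set_option autoImplicit false
set_option linter.style.haveILetI false
set_option linter.unusedSectionVars false

/-!
# Rung C of the Zassenhaus ladder: Frobenius complements have free representations
-/

namespace Cfsg.Agent.Lib.Helper66.Zass

open Cfsg.Agent.Lib.Helper61.Zass Subgroup
open scoped TensorProduct

/-- a group acting fixed-point-freely on a nontrivial elementary abelian `q`-group has a free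
representation over the algebraic closure of `𝔽_q` -/
theorem hasFreeRep_of_elementary {H : Type*} [Group H] {V0 : Type} [CommGroup V0] [Finite V0]
    [Nontrivial V0] (q : ℕ) [hq : Fact q.Prime] (hV : ∀ v : V0, v ^ q = 1) (φ : H →* MulAut V0)
    (hfpf : ∀ h : H, h ≠ 1 → ∀ v, φ h v = v → v = 1) : HasFreeRep H := by
  obtain ⟨i⟩ : Nonempty (Module (ZMod q) (Additive V0)) := ⟨AddCommGroup.zmodModule (n := q) (by
    intro x
    exact congrArg Additive.ofMul (hV x.toMul))⟩
  let ρ₀ : H →* Module.End (ZMod q) (Additive V0) :=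
    { toFun := fun h => (MonoidHom.toAdditive (φ h).toMonoidHom).toZModLinearMap q
      map_one' := by
        apply LinearMap.ext
        intro v
        rw [Module.End.one_apply, map_one]
        rfl
      map_mul' := by
        intro a b
        apply LinearMap.ext
        intro v
        rw [Module.End.mul_apply, map_mul]
        rfl }
  have hρ₀ : ∀ (h : H) (v : Additive V0), ρ₀ h v = Additive.ofMul (φ h v.toMul) := fun _ _ => rfl
  let Kb := AlgebraicClosure (ZMod q)
  let ρ : H →* Module.End Kb (Kb ⊗[ZMod q] Additive V0) :=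
    ((Module.End.baseChangeHom (ZMod q) Kb (Additive V0)) : _ →* _).comp ρ₀
  haveI : Module.Finite (ZMod q) (Additive V0) := Module.Finite.of_finite
  haveI : Nontrivial (Kb ⊗[ZMod q] Additive V0) := by
    apply Module.nontrivial_of_finrank_pos (R := Kb)
    rw [Module.finrank_baseChange]
    exact Module.finrank_pos
  refine ⟨Kb, inferInstance, inferInstance, Kb ⊗[ZMod q] Additive V0, inferInstance, inferInstance,
    inferInstance, inferInstance, ρ, ?_⟩
  intro g hg v hv
  have hinj : Function.Injective ⇑(ρ₀ g - 1 : Module.End (ZMod q) (Additive V0)) := by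
    rw [← LinearMap.ker_eq_bot, LinearMap.ker_eq_bot']
    intro w hw
    rw [LinearMap.sub_apply, Module.End.one_apply, sub_eq_zero, hρ₀] at hw
    have h1 : φ g w.toMul = w.toMul := congrArg Additive.toMul hw
    have h2 := hfpf g hg _ h1
    exact congrArg Additive.ofMul h2
  have hunit : IsUnit (ρ₀ g - 1) := by
    rw [Module.End.isUnit_iff]
    exact ⟨hinj, Finite.surjective_of_injective hinj⟩
  have hunit' : IsUnit (ρ g - 1) := by
    have := hunit.map (Module.End.baseChangeHom (ZMod q) Kb (Additive V0))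
    rwa [map_sub, map_one] at this
  rw [Module.End.isUnit_iff] at hunit'
  apply hunit'.1
  rw [map_zero, LinearMap.sub_apply, Module.End.one_apply, hv, sub_self]

theorem hasFreeRep_of_elementary' {H : Type*} [Group H] {V0 : Type} [Group V0] [Finite V0]
    [Nontrivial V0] (hc : ∀ a b : V0, a * b = b * a) (q : ℕ) [hq : Fact q.Prime]
    (hV : ∀ v : V0, v ^ q = 1) (φ : H →* MulAut V0)
    (hfpf : ∀ h : H, h ≠ 1 → ∀ v, φ h v = v → v = 1) : HasFreeRep H := by
  letI : CommGroup V0 := { ‹Group V0› with mul_comm := hc }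
  exact hasFreeRep_of_elementary q hV φ hfpf

/-- **Rung C (1).** -/
theorem hasFreeRep_of_frobenius {G : Type*} [Group G] [Finite G]
    (hFC : ∃ (L : Type) (_ : Group L) (_ : Finite L) (H : Subgroup L),
      Cfsg.IsFrobeniusComplement H ∧ Nonempty (G ≃* H)) : HasFreeRep G := by
  obtain ⟨L, _, _, H, hH, ⟨e⟩⟩ := hFC
  obtain ⟨K, hK, hKn, -, hKbot, -, hfix⟩ := Cfsg.Agent.Lib.Helper75.frobenius_kernel_data H hH
  obtain ⟨N, hN, -, hNnil⟩ := Cfsg.Agent.S0042.result H hH
  obtain rfl : N = K := SetLike.coe_injective (hN.trans hK.symm)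
  haveI : Nontrivial N := (Subgroup.nontrivial_iff_ne_bot N).2 hKbot
  have hcen : center N ≠ ⊥ := Group.IsNilpotent.center_ne_bot N
  have hcard : Nat.card (center N) ≠ 1 := fun h => hcen (Subgroup.card_eq_one.1 h)
  obtain ⟨q, hq, hdvd⟩ := Nat.exists_prime_and_dvd hcard
  haveI := Fact.mk hq
  obtain ⟨z, hz⟩ := exists_prime_orderOf_dvd_card' q hdvd
  let V0 : Subgroup L :=
    { carrier := {k | k ∈ N ∧ (∀ k' ∈ N, k' * k = k * k') ∧ k ^ q = 1}
      one_mem' := ⟨one_mem _, fun k' _ => by rw [mul_one, one_mul], one_pow _⟩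
      mul_mem' := by
        rintro a b ⟨ha, ha', ha''⟩ ⟨hb, hb', hb''⟩
        refine ⟨mul_mem ha hb, ?_, ?_⟩
        · intro k' hk'
          rw [← mul_assoc, ha' k' hk', mul_assoc, hb' k' hk', mul_assoc]
        · have hab : Commute a b := ha' b hb |>.symm
          rw [hab.mul_pow, ha'', hb'', one_mul]
      inv_mem' := by
        rintro a ⟨ha, ha', ha''⟩
        refine ⟨inv_mem ha, ?_, by rw [inv_pow, ha'', inv_one]⟩
        intro k' hk'
        have h1 : Commute k' a := ha' k' hk'
        exact h1.inv_right }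
  haveI hV0n : V0.Normal := by
    constructor
    rintro a ⟨ha, ha', ha''⟩ g
    refine ⟨hKn.conj_mem a ha g, ?_, by rw [conj_pow, ha'', mul_one, mul_inv_cancel]⟩
    intro k' hk'
    have h1 := ha' (g⁻¹ * k' * g) (by
      have := hKn.conj_mem k' hk' g⁻¹
      rwa [inv_inv] at this)
    calc k' * (g * a * g⁻¹) = g * ((g⁻¹ * k' * g) * a) * g⁻¹ := by group
      _ = g * (a * (g⁻¹ * k' * g)) * g⁻¹ := by rw [h1]
      _ = g * a * g⁻¹ * k' := by group
  have hzV : ((z : N) : L) ∈ V0 := by
    refine ⟨(z : N).2, ?_, ?_⟩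
    · intro k' hk'
      exact congrArg Subtype.val (mem_center_iff.1 z.2 ⟨k', hk'⟩)
    · have h1 := pow_orderOf_eq_one z
      rw [hz] at h1
      have h2 := congrArg (fun w : center N => ((w : N) : L)) h1
      simpa using h2
  have hz1 : ((z : N) : L) ≠ 1 := by
    intro h
    have h1 : z = 1 := Subtype.ext (Subtype.ext h)
    rw [h1, orderOf_one] at hz
    exact hq.one_lt.ne hz
  haveI : Nontrivial V0 := ⟨⟨⟨_, hzV⟩, 1, fun h => hz1 (congrArg Subtype.val h)⟩⟩
  have hfree : HasFreeRep H := by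
    apply hasFreeRep_of_elementary' (V0 := V0) ?_ q ?_
      ((MulAut.conjNormal (H := V0)).comp H.subtype) ?_
    · rintro ⟨a, ha⟩ ⟨b, hb⟩
      apply Subtype.ext
      exact hb.2.1 a ha.1
    · rintro ⟨a, ha⟩
      apply Subtype.ext
      exact ha.2.2
    · rintro h hh ⟨v, hv⟩ hfixv
      apply Subtype.ext
      have h1 : (h : L) * v * (h : L)⁻¹ = v := congrArg Subtype.val hfixv
      exact hfix h h.2 (fun h2 => hh (Subtype.ext h2)) v hv.1 (mul_inv_eq_iff_eq_mul.1 h1)
  exact hfree.of_injective e.toMonoidHom e.injective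

/-- **Rung C (2).** -/
theorem hasFreeRep_of_fpf {K : Type*} [Group K] [Finite K] (G : Subgroup (MulAut K))
    (hfpf : ∀ φ ∈ G, φ ≠ 1 → ∀ k, φ k = k → k = 1) (hne : G ≠ ⊥) : HasFreeRep G := by
  haveI : Nontrivial G := (Subgroup.nontrivial_iff_ne_bot G).2 hne
  haveI : Nontrivial K := by
    by_contra hK
    rw [not_nontrivial_iff_subsingleton] at hK
    apply hne
    rw [eq_bot_iff]
    intro φ _
    rw [mem_bot]
    ext k
    exact Subsingleton.elim _ _
  obtain ⟨L, i1, i2, C, hC, hiso, -⟩ := Cfsg.Agent.Lib.Helper75.exists_frobenius_of_fpf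
    (H := G) (V := K) G.subtype (by
      intro h hh v hv
      exact hfpf h h.2 (fun h1 => hh (Subtype.ext h1)) v hv)
  exact hasFreeRep_of_frobenius ⟨L, i1, i2, C, hC, hiso⟩

end Cfsg.Agent.Lib.Helper66.Zass
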