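import Cfsg.Agent.Lib.Helper32.Suz.Defs
import Cfsg.Agent.Lib.Helper54.ZassInv
import Cfsg.Agent.Lib.Helper54.ZassCount
import Cfsg.Agent.Lib.Helper82.Invol

/-!
# SUZ3: basic facts on ZT-configurations and rung CENT
-/

set_option autoImplicit false
set_option linter.unusedSectionVars false
set_option linter.unusedVariables false
set_option linter.style.haveILetI false

namespace Cfsg.Agent.Lib.Helper66.Suz3

open MulAction Cfsg.Agent.Lib.Helper32.Suz Cfsg.Agent.Lib.Helper54.Zass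

variable {G Ω : Type*} [Group G] [Finite G] [MulAction G Ω] [Fintype Ω]
  {a b : Ω} {Q Z E : Subgroup G} {t : G} {q : ℕ}

theorem odd_card (D : ZT a b Q Z E t q) : Odd (Fintype.card Ω) := by
  obtain ⟨k, hk⟩ := IsPGroup.iff_card.mp D.Q2
  have hZQ : Z ≤ Q := fun z hz => ((D.Zmem z).1 hz).1
  have h1 : q ≤ Nat.card Q := D.Zcard ▸ Subgroup.card_le_of_le hZQ
  have hq := D.hq
  have hk0 : k ≠ 0 := by
    rintro rfl
    rw [pow_zero] at hk
    omega
  rw [← D.Qcard, hk]
  exact Even.add_one (Nat.even_pow.2 ⟨even_two, hk0⟩)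

theorem orderOf_invol {s : G} (hs : s * s = 1) (hs1 : s ≠ 1) : orderOf s = 2 :=
  orderOf_eq_prime (by rw [sq]; exact hs) hs1

theorem exists_smul_a (D : ZT a b Q Z E t q) (c : Ω) : ∃ g : G, g • a = c := by
  by_cases h : c = a
  · exact ⟨1, by rw [one_smul, h]⟩
  · obtain ⟨g, hg, -⟩ := two_trans D.h2 D.hab h
    exact ⟨g, hg⟩

/-- an involution has a unique fixed point -/
theorem invol_fix (D : ZT a b Q Z E t q) {s : G} (hs : s * s = 1) (hs1 : s ≠ 1) :
    ∃ c : Ω, s • c = c ∧ ∀ d : Ω, s • d = d → d = c :=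
  invol_fix_unique D.h3 (odd_card D) s (orderOf_invol hs hs1)

theorem conj_pow_eq_one {g w : G} {n : ℕ} (h : (g⁻¹ * w * g) ^ n = 1) : w ^ n = 1 := by
  have : (g⁻¹ * w * g) ^ n = g⁻¹ * w ^ n * g := by
    have := conj_pow (a := g⁻¹) (b := w) (i := n)
    simpa using this
  rw [this] at h
  have h2 : w ^ n = g * (g⁻¹ * w ^ n * g) * g⁻¹ := by group
  rw [h2, h]
  group

/-- an element fixing exactly one point is a 2-element -/
theorem two_pow_of_fixOnly (D : ZT a b Q Z E t q) {w : G} {c : Ω} (hc : w • c = c)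
    (hu : ∀ d : Ω, w • d = d → d = c) : ∃ k : ℕ, w ^ (2 ^ k) = 1 := by
  obtain ⟨g, hg⟩ := exists_smul_a D c
  have h1 : (g⁻¹ * w * g) • a = a := by
    rw [mul_smul, mul_smul, hg, hc, ← hg, inv_smul_smul]
  have h2 : ∀ d : Ω, (g⁻¹ * w * g) • d = d → d = a := by
    intro d hd
    rw [mul_smul, mul_smul, inv_smul_eq_iff] at hd
    have := hu _ hd
    rw [← hg] at this
    exact smul_left_cancel g this
  have h3 := mem_of_fixOnly D.h2 D.h3 D.hab Q D.Qle D.Qcard D.Qfix _ h1 h2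
  obtain ⟨k, hk⟩ := D.Q2 ⟨_, h3⟩
  refine ⟨k, conj_pow_eq_one (g := g) ?_⟩
  exact congrArg Subtype.val hk

/-- an element commuting with an involution is a 2-element -/
theorem two_pow_of_commute (D : ZT a b Q Z E t q) {s w : G} (hs : s * s = 1) (hs1 : s ≠ 1)
    (hc : w * s = s * w) : ∃ k : ℕ, w ^ (2 ^ k) = 1 := by
  obtain ⟨c, hsc, hu⟩ := invol_fix D hs hs1
  obtain ⟨g, hg⟩ := exists_smul_a D c
  have h1 : (g⁻¹ * s * g) • a = a := by
    rw [mul_smul, mul_smul, hg, hsc, ← hg, inv_smul_smul]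
  have h2 : orderOf (g⁻¹ * s * g) = 2 := by
    apply orderOf_invol
    · calc g⁻¹ * s * g * (g⁻¹ * s * g) = g⁻¹ * (s * s) * g := by group
        _ = 1 := by rw [hs]; group
    · intro h
      apply hs1
      calc s = g * (g⁻¹ * s * g) * g⁻¹ := by group
        _ = 1 := by rw [h]; group
  have h3 : g⁻¹ * w * g ∈ Subgroup.centralizer ({g⁻¹ * s * g} : Set G) := by
    rw [Subgroup.mem_centralizer_singleton_iff]
    calc g⁻¹ * w * g * (g⁻¹ * s * g) = g⁻¹ * (w * s) * g := by group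
      _ = g⁻¹ * (s * w) * g := by rw [hc]
      _ = g⁻¹ * s * g * (g⁻¹ * w * g) := by group
  have h4 := centralizer_invol_le D.h2 D.h3 D.hab (odd_card D) Q D.Qle D.Qcard D.Qfix _ h2 h1 h3
  obtain ⟨k, hk⟩ := D.Q2 ⟨_, h4⟩
  refine ⟨k, conj_pow_eq_one (g := g) ?_⟩
  exact congrArg Subtype.val hk

theorem eq_one_of_odd_of_two_pow {w : G} (ho : Odd (orderOf w)) {k : ℕ} (hk : w ^ (2 ^ k) = 1) :
    w = 1 := by
  have h1 : orderOf w ∣ 2 ^ k := orderOf_dvd_of_pow_eq_one hk
  have h2 : (orderOf w).Coprime (2 ^ k) := Nat.Coprime.pow_right _ (Nat.coprime_two_right.2 ho)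
  exact orderOf_eq_one_iff.1 (Nat.Coprime.eq_one_of_dvd h2 h1)

/-- (F2) -/
theorem eq_one_of_odd_of_commute (D : ZT a b Q Z E t q) {s w : G} (hs : s * s = 1) (hs1 : s ≠ 1)
    (hc : w * s = s * w) (ho : Odd (orderOf w)) : w = 1 := by
  obtain ⟨k, hk⟩ := two_pow_of_commute D hs hs1 hc
  exact eq_one_of_odd_of_two_pow ho hk

/-- (F1) -/
theorem exists_second_fix (D : ZT a b Q Z E t q) {w : G} (ho : Odd (orderOf w)) (hw : w ≠ 1)
    {c : Ω} (hc : w • c = c) : ∃ d : Ω, d ≠ c ∧ w • d = d := by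
  by_contra hcon
  push Not at hcon
  obtain ⟨k, hk⟩ := two_pow_of_fixOnly D hc (fun d hd => by
    by_contra h
    exact hcon d h hd)
  exact hw (eq_one_of_odd_of_two_pow ho hk)

/-- an element without fixed points commutes with no involution, so it has odd order -/
theorem odd_of_fpf (D : ZT a b Q Z E t q) {y : G} (hfpf : ∀ c : Ω, y • c ≠ c) :
    Odd (orderOf y) := by
  by_contra hcon
  rw [Nat.not_odd_iff_even] at hcon
  obtain ⟨k, hk⟩ := hcon
  have hpos : 0 < orderOf y := orderOf_pos y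
  have h1 : y ^ k * y ^ k = 1 := by rw [← pow_add, ← hk, pow_orderOf_eq_one]
  have h2 : y ^ k ≠ 1 := pow_ne_one_of_lt_orderOf (by omega) (by omega)
  obtain ⟨c, hc, hu⟩ := invol_fix D h1 h2
  exact hfpf c (fix_of_commute ((Commute.refl y).pow_right k) hc hu)

theorem smul_eq_of_sq_smul_eq {y : G} (ho : Odd (orderOf y)) {c : Ω} (h : (y * y) • c = c) :
    y • c = c := by
  obtain ⟨j, hj⟩ := ho
  have h1 : y = (y * y) ^ (j + 1) := by
    rw [← pow_two, ← pow_mul, show 2 * (j + 1) = (2 * j + 1) + 1 by ring, ← hj, pow_succ,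
      pow_orderOf_eq_one, one_mul]
  have h2 : ∀ n : ℕ, ((y * y) ^ n) • c = c := by
    intro n
    induction n with
    | zero => rw [pow_zero, one_smul]
    | succ n ih => rw [pow_succ, mul_smul, h, ih]
  rw [h1]
  exact h2 _

/-- a group acting freely has order dividing the number of points -/
theorem card_dvd_of_free (C : Subgroup G) (h : ∀ x ∈ C, x ≠ 1 → ∀ c : Ω, x • c ≠ c) :
    Nat.card C ∣ Fintype.card Ω := by
  have hst : ∀ c : Ω, stabilizer C c = ⊥ := by
    intro c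
    rw [eq_bot_iff]
    intro x hx
    rw [Subgroup.mem_bot]
    by_contra hx1
    exact h x.1 x.2 (fun h' => hx1 (Subtype.ext h')) c hx
  have e := selfEquivOrbitsQuotientProd hst
  rw [← Nat.card_eq_fintype_card, Nat.card_congr e, Nat.card_prod]
  exact Dvd.intro_left _ rfl

/-- **RUNG CENT** -/
theorem cent_of_inverted (D : ZT a b Q Z E t q) {y s : G} (hfpf : ∀ c : Ω, y • c ≠ c)
    (hs : s * s = 1) (hs1 : s ≠ 1) (hinv : s * y * s⁻¹ = y⁻¹) :
    (∀ x x' : G, x * y = y * x → x' * y = y * x' → x * x' = x' * x) ∧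
      (∀ x : G, x * y = y * x → x ≠ 1 → ∀ c : Ω, x • c ≠ c) ∧
      Nat.card (Subgroup.centralizer ({y} : Set G)) ∣ Fintype.card Ω := by
  obtain ⟨C, hC⟩ : ∃ C, C = Subgroup.centralizer ({y} : Set G) := ⟨_, rfl⟩
  have hmem : ∀ x : G, x ∈ C ↔ x * y = y * x := fun x => by
    rw [hC, Subgroup.mem_centralizer_singleton_iff]
  -- elements of C have odd order
  have hoddC : ∀ x ∈ C, Odd (orderOf x) := by
    intro x hx
    by_contra hcon
    rw [Nat.not_odd_iff_even] at hcon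
    obtain ⟨k, hk⟩ := hcon
    have hpos : 0 < orderOf x := orderOf_pos x
    have h1 : x ^ k * x ^ k = 1 := by rw [← pow_add, ← hk, pow_orderOf_eq_one]
    have h2 : x ^ k ≠ 1 := pow_ne_one_of_lt_orderOf (by omega) (by omega)
    obtain ⟨c, hc, hu⟩ := invol_fix D h1 h2
    have hcomm : Commute y (x ^ k) := by
      have : Commute x y := (hmem x).1 hx
      exact (this.pow_left k).symm
    exact hfpf c (fix_of_commute hcomm hc hu)
  have hnorm : ∀ r ∈ C, s * r * s⁻¹ ∈ C := by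
    intro r hr
    rw [hmem] at hr ⊢
    have hy : y = s * y⁻¹ * s⁻¹ := by
      rw [← hinv]
      calc y = (s * s) * y * (s * s)⁻¹ := by rw [hs]; group
        _ = s * (s * y * s⁻¹) * s⁻¹ := by group
    have hr' : r * y⁻¹ = y⁻¹ * r := by
      calc r * y⁻¹ = y⁻¹ * (y * r) * y⁻¹ := by group
        _ = y⁻¹ * (r * y) * y⁻¹ := by rw [hr]
        _ = y⁻¹ * r := by group
    calc s * r * s⁻¹ * y = s * r * s⁻¹ * (s * y⁻¹ * s⁻¹) := by rw [← hy]
      _ = s * (r * y⁻¹) * s⁻¹ := by group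
      _ = s * (y⁻¹ * r) * s⁻¹ := by rw [hr']
      _ = (s * y⁻¹ * s⁻¹) * (s * r * s⁻¹) := by group
      _ = y * (s * r * s⁻¹) := by rw [← hy]
  have hfix : ∀ r ∈ C, s * r = r * s → r = 1 := by
    intro r hr hrs
    exact eq_one_of_odd_of_commute D hs hs1 hrs.symm (hoddC r hr)
  obtain ⟨-, hcomm⟩ := Cfsg.Agent.Lib.Helper82.inverts_of_fixedPointFree s hs C hnorm hfix
  have hfree : ∀ x : G, x * y = y * x → x ≠ 1 → ∀ c : Ω, x • c ≠ c := by
    intro x hx hx1 c hc
    have hxC : x ∈ C := (hmem x).2 hx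
    obtain ⟨d, hdc, hd⟩ := exists_second_fix D (hoddC x hxC) hx1 hc
    have hfixset : ∀ e : Ω, x • e = e → e = c ∨ e = d := by
      intro e he
      by_contra hcon
      push Not at hcon
      exact hx1 (D.h3 x c d e hdc.symm hcon.2.symm hcon.1.symm hc hd he)
    have h1 : x • (y • c) = y • c := by rw [← mul_smul, hx, mul_smul, hc]
    have h2 : x • (y • d) = y • d := by rw [← mul_smul, hx, mul_smul, hd]
    have h3 : y • c = d := (hfixset _ h1).resolve_left (hfpf c)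
    have h4 : y • d = c := (hfixset _ h2).resolve_right (hfpf d)
    have hyC : y ∈ C := (hmem y).2 rfl
    exact hfpf c (smul_eq_of_sq_smul_eq (hoddC y hyC) (by rw [mul_smul, h3, h4]))
  refine ⟨fun x x' hx hx' => hcomm x ((hmem x).2 hx) x' ((hmem x').2 hx'), hfree, ?_⟩
  rw [← hC]
  exact card_dvd_of_free C (fun x hx hx1 c => hfree x ((hmem x).1 hx) hx1 c)

end Cfsg.Agent.Lib.Helper66.Suz3
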