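import Cfsg.Agent.Lib.Helper66.Suz3Cent
import Cfsg.Agent.Lib.Helper71.Suz3Blk2
import Cfsg.Agent.Lib.Helper71.Suz3Fpfy

/-!
# SUZ3 rung TORUS
-/

set_option autoImplicit false
set_option linter.unusedSectionVars false
set_option linter.unusedVariables false
set_option linter.style.haveILetI false

namespace Cfsg.Agent.Lib.Helper66.Suz3

open MulAction Cfsg.Agent.Lib.Helper32.Suz Cfsg.Agent.Lib.Helper54.Zass

variable {G Ω : Type*} [Group G] [Finite G] [MulAction G Ω] [Fintype Ω]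
  {a b : Ω} {Q Z E : Subgroup G} {t : G} {q : ℕ}

/-- `s` is an involution mapping `c` to `d` -/
def Inv2 (c d : Ω) (s : G) : Prop := s * s = 1 ∧ s ≠ 1 ∧ s • c = d

theorem card_mem_ne_one (H : Subgroup G) :
    Nat.card {x : G // x ∈ H ∧ x ≠ 1} = Nat.card H - 1 := by
  classical
  have e : {x : G // x ∈ H ∧ x ≠ 1} ≃ {x : H // x ≠ 1} :=
    { toFun := fun x => ⟨⟨x.1, x.2.1⟩, fun h => x.2.2 (congrArg Subtype.val h)⟩
      invFun := fun x => ⟨x.1.1, x.1.2, fun h => x.2 (Subtype.ext h)⟩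
      left_inv := fun x => rfl
      right_inv := fun x => rfl }
  rw [Nat.card_congr e]
  haveI := Fintype.ofFinite H
  rw [Nat.card_eq_fintype_card, Fintype.card_subtype_compl, Fintype.card_subtype_eq,
    ← Nat.card_eq_fintype_card]

theorem card_inv2_aa (D : ZT a b Q Z E t q) : Nat.card {s : G // Inv2 a a s} = q - 1 := by
  rw [← D.Zcard, ← card_mem_ne_one Z]
  apply Nat.card_congr
  apply Equiv.subtypeEquivRight
  intro s
  constructor
  · rintro ⟨hs, hs1, hsa⟩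
    refine ⟨(D.Zmem s).2 ⟨?_, hs⟩, hs1⟩
    obtain ⟨c, hc, hu⟩ := invol_fix D hs hs1
    have hac : a = c := hu a hsa
    subst hac
    exact mem_of_fixOnly D.h2 D.h3 D.hab Q D.Qle D.Qcard D.Qfix s hsa hu
  · rintro ⟨hs, hs1⟩
    obtain ⟨hQ, hss⟩ := (D.Zmem s).1 hs
    exact ⟨hss, hs1, D.Qle hQ⟩

theorem card_inv2_ab (D : ZT a b Q Z E t q) : Nat.card {s : G // Inv2 a b s} = q - 1 := by
  rw [← D.Ecard]
  have hti : t⁻¹ = t := inv_eq_of_mul_eq_one_left D.tt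
  have hmemE : ∀ x : G, x ∈ E ↔ x • a = a ∧ x • b = b := by
    intro x
    rw [D.hE, Subgroup.mem_inf, mem_stabilizer_iff, mem_stabilizer_iff]
  apply Nat.card_congr
  refine
    { toFun := fun s => ⟨t * s.1, ?_⟩
      invFun := fun x => ⟨t * x.1, ?_, ?_, ?_⟩
      left_inv := fun s => ?_
      right_inv := fun x => ?_ }
  · obtain ⟨s, hs, hs1, hsa⟩ := s
    have hsb : s • b = a := by rw [← hsa, ← mul_smul, hs, one_smul]
    rw [hmemE]
    exact ⟨by rw [mul_smul, hsa, D.tb], by rw [mul_smul, hsb, D.ta]⟩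
  · have h := D.tinv x.1 x.2
    rw [hti] at h
    calc t * x.1 * (t * x.1) = (t * x.1 * t) * x.1 := by group
      _ = 1 := by rw [h]; group
  · intro h
    have h1 : (t * x.1) • a = b := by rw [mul_smul, ((hmemE x.1).1 x.2).1, D.ta]
    rw [h, one_smul] at h1
    exact D.hab h1
  · rw [mul_smul, ((hmemE x.1).1 x.2).1, D.ta]
  · apply Subtype.ext
    change t * (t * s.1) = s.1
    rw [← mul_assoc, D.tt, one_mul]
  · apply Subtype.ext
    change t * (t * x.1) = x.1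
    rw [← mul_assoc, D.tt, one_mul]

theorem card_inv2_conj (g : G) (c d : Ω) :
    Nat.card {s : G // Inv2 (g • c) (g • d) s} = Nat.card {s : G // Inv2 c d s} := by
  apply Nat.card_congr
  refine
    { toFun := fun s => ⟨g⁻¹ * s.1 * g, ?_, ?_, ?_⟩
      invFun := fun s => ⟨g * s.1 * g⁻¹, ?_, ?_, ?_⟩
      left_inv := fun s => ?_
      right_inv := fun s => ?_ }
  · calc g⁻¹ * s.1 * g * (g⁻¹ * s.1 * g) = g⁻¹ * (s.1 * s.1) * g := by group
      _ = 1 := by rw [s.2.1]; group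
  · intro h
    apply s.2.2.1
    calc s.1 = g * (g⁻¹ * s.1 * g) * g⁻¹ := by group
      _ = 1 := by rw [h]; group
  · rw [mul_smul, mul_smul, s.2.2.2, inv_smul_smul]
  · calc g * s.1 * g⁻¹ * (g * s.1 * g⁻¹) = g * (s.1 * s.1) * g⁻¹ := by group
      _ = 1 := by rw [s.2.1]; group
  · intro h
    apply s.2.2.1
    calc s.1 = g⁻¹ * (g * s.1 * g⁻¹) * g := by group
      _ = 1 := by rw [h]; group
  · rw [mul_smul, mul_smul, inv_smul_smul, s.2.2.2]
  · apply Subtype.ext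
    change g * (g⁻¹ * s.1 * g) * g⁻¹ = s.1
    group
  · apply Subtype.ext
    change g⁻¹ * (g * s.1 * g⁻¹) * g = s.1
    group

/-- the number of involutions mapping `c` to `d` -/
theorem card_inv2 (D : ZT a b Q Z E t q) (c d : Ω) : Nat.card {s : G // Inv2 c d s} = q - 1 := by
  by_cases h : c = d
  · subst h
    obtain ⟨g, rfl⟩ := exists_smul_a D c
    rw [card_inv2_conj, card_inv2_aa D]
  · obtain ⟨g, rfl, rfl⟩ := two_trans D.h2 D.hab h
    rw [card_inv2_conj, card_inv2_ab D]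


theorem commute_of_two_inverting {s s' y : G} (h : s * y * s⁻¹ = y⁻¹) (h' : s' * y * s'⁻¹ = y⁻¹) :
    (s * s') * y = y * (s * s') := by
  have h1 : s * y⁻¹ * s⁻¹ = y := by
    have h2 : s * y⁻¹ * s⁻¹ = (s * y * s⁻¹)⁻¹ := by group
    rw [h2, h, inv_inv]
  calc s * s' * y = s * (s' * y * s'⁻¹) * s⁻¹ * (s * s') := by group
    _ = y * (s * s') := by rw [h', h1]

/-- arithmetic at the end of the count -/
theorem torus_arith {k F Yc : ℕ}
    (h1 : 2 * ((k + 3) * (k + 1) * ((k + 3) * (k + 1)) - (k + 3) * (k + 1)) ≤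
      2 * F + (k + 3) * ((k + 3) * ((k + 1) * (k + 1) - (k + 1)))
        + (k + 3) * ((k + 1) * (k + 1) - (k + 1)))
    (h2 : F < Yc * (k + 3))
    (h3 : 2 * Yc + (k + 2) * (k + 1) = (k + 3) * (k + 2) * (k + 1)) : False := by
  have e1 : (k + 1) * (k + 1) - (k + 1) = (k + 1) * k := by
    apply Nat.sub_eq_of_eq_add; ring
  have e2 : (k + 3) * (k + 1) * ((k + 3) * (k + 1)) - (k + 3) * (k + 1)
      = (k + 3) * (k + 1) * (k * k + 4 * k + 2) := by
    apply Nat.sub_eq_of_eq_add; ring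
  rw [e1, e2] at h1
  have e3 : 2 * Yc = (k + 2) * (k + 2) * (k + 1) := by
    have : (k + 3) * (k + 2) * (k + 1) = (k + 2) * (k + 2) * (k + 1) + (k + 2) * (k + 1) := by ring
    omega
  have e4 : 2 * F < (k + 2) * (k + 2) * (k + 1) * (k + 3) := by
    rw [← e3]; nlinarith
  nlinarith

theorem torus_count (D : ZT a b Q Z E t q) (Y : Subgroup G) (Δ : Set Ω)
    (hY : ∀ g ∈ Y, ∀ c, g • c ∈ Δ ↔ c ∈ Δ)
    (hn : Δ.ncard = q + 1)
    (hinv : ∀ s : G, s * s = 1 → ∀ c ∈ Δ, s • c = c → s ∈ Y)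
    (hfix : ∀ y ∈ Y, y ≠ 1 → ∀ c, y • c = c → c ∈ Δ)
    (hfpf : 2 * Nat.card {y : G // y ∈ Y ∧ ∀ c : Ω, y • c ≠ c} + q * (q - 1)
      = (q + 1) * q * (q - 1))
    {y : G} (hy : y ∈ Y) (hyf : ∀ c : Ω, y • c ≠ c) :
    q + 1 ≤ Nat.card {s : G // (s ∈ Y ∧ s * s = 1 ∧ s ≠ 1) ∧ s * y * s⁻¹ = y⁻¹} := by
  classical
  haveI : Fintype G := Fintype.ofFinite G
  obtain ⟨Δf, hΔfdef⟩ : ∃ Δf : Finset Ω, Δf = Finset.univ.filter (· ∈ Δ) := ⟨_, rfl⟩
  have hmemΔ : ∀ c, c ∈ Δf ↔ c ∈ Δ := by intro c; rw [hΔfdef]; simp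
  have hΔf : Δf.card = q + 1 := by
    rw [← hn, Set.ncard_eq_toFinset_card', hΔfdef]
    congr 1
    ext c
    simp
  obtain ⟨I2, hI2def⟩ : ∃ I2 : Ω → Ω → Finset G, I2 = fun c d => Finset.univ.filter (Inv2 c d) :=
    ⟨_, rfl⟩
  have hmemI2 : ∀ c d s, s ∈ I2 c d ↔ Inv2 c d s := by intro c d s; rw [hI2def]; simp
  have hI2 : ∀ c d, (I2 c d).card = q - 1 := by
    intro c d
    rw [← card_inv2 D c d, Nat.card_eq_fintype_card, Fintype.card_subtype, hI2def]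
  obtain ⟨I, hIdef⟩ : ∃ I : Finset G, I = Finset.univ.filter (fun s => s ∈ Y ∧ s * s = 1 ∧ s ≠ 1) :=
    ⟨_, rfl⟩
  have hmemI : ∀ s, s ∈ I ↔ (s ∈ Y ∧ s * s = 1 ∧ s ≠ 1) := by intro s; rw [hIdef]; simp
  have hIU : I = Δf.biUnion (fun p => I2 p p) := by
    ext s
    rw [hmemI, Finset.mem_biUnion]
    constructor
    · rintro ⟨hsY, hs, hs1⟩
      obtain ⟨c, hc, -⟩ := invol_fix D hs hs1
      exact ⟨c, (hmemΔ c).2 (hfix s hsY hs1 c hc), (hmemI2 c c s).2 ⟨hs, hs1, hc⟩⟩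
    · rintro ⟨c, hc, hs⟩
      obtain ⟨hs, hs1, hsc⟩ := (hmemI2 c c s).1 hs
      exact ⟨hinv s hs c ((hmemΔ c).1 hc) hsc, hs, hs1⟩
  have hIcard : I.card = (q + 1) * (q - 1) := by
    rw [hIU, Finset.card_biUnion]
    · rw [Finset.sum_congr rfl (fun p _ => hI2 p p), Finset.sum_const, hΔf, smul_eq_mul]
    · intro c _ d _ hcd
      change Disjoint (I2 c c) (I2 d d)
      rw [Finset.disjoint_left]
      intro s hs hs'
      obtain ⟨hs, hs1, hsc⟩ := (hmemI2 c c s).1 hs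
      obtain ⟨-, -, hsd⟩ := (hmemI2 d d s).1 hs'
      obtain ⟨e, -, hu⟩ := invol_fix D hs hs1
      exact hcd ((hu c hsc).trans (hu d hsd).symm)
  -- the fixed-point-free elements of `Y`
  obtain ⟨YY, hYYdef⟩ : ∃ YY : Finset G,
      YY = Finset.univ.filter (fun y => y ∈ Y ∧ ∀ c : Ω, y • c ≠ c) := ⟨_, rfl⟩
  have hmemYY : ∀ y, y ∈ YY ↔ (y ∈ Y ∧ ∀ c : Ω, y • c ≠ c) := by intro y; rw [hYYdef]; simp
  have hYYcard : Nat.card {y : G // y ∈ Y ∧ ∀ c : Ω, y • c ≠ c} = YY.card := by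
    rw [Nat.card_eq_fintype_card, Fintype.card_subtype, hYYdef]
  rw [hYYcard] at hfpf
  obtain ⟨J, hJdef⟩ : ∃ J : G → Finset G, J = fun y => I.filter (fun s => s * y * s⁻¹ = y⁻¹) :=
    ⟨_, rfl⟩
  have hmemJ : ∀ y s, s ∈ J y ↔ (s ∈ I ∧ s * y * s⁻¹ = y⁻¹) := by
    intro y s; rw [hJdef]; simp
  have hJcard : Nat.card {s : G // (s ∈ Y ∧ s * s = 1 ∧ s ≠ 1) ∧ s * y * s⁻¹ = y⁻¹} = (J y).card := by
    rw [Nat.card_eq_fintype_card, Fintype.card_subtype]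
    congr 1
    ext s
    rw [hmemJ, hmemI]
    simp
  rw [hJcard]
  -- `|J y| ≤ q + 1`
  have hJle : ∀ y ∈ YY, (J y).card ≤ q + 1 := by
    intro y hy
    obtain ⟨hyY, hyf⟩ := (hmemYY y).1 hy
    have hsub : J y ⊆ Δf.biUnion (fun p => (J y).filter (fun s => s • p = p)) := by
      intro s hs
      obtain ⟨hsI, hsy⟩ := (hmemJ y s).1 hs
      obtain ⟨hsY, hss, hs1⟩ := (hmemI s).1 hsI
      obtain ⟨c, hc, -⟩ := invol_fix D hss hs1
      rw [Finset.mem_biUnion]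
      exact ⟨c, (hmemΔ c).2 (hfix s hsY hs1 c hc), Finset.mem_filter.2 ⟨hs, hc⟩⟩
    refine (Finset.card_le_card hsub).trans ?_
    refine (Finset.card_biUnion_le_card_mul _ _ 1 ?_).trans (by rw [hΔf, mul_one])
    intro p _
    rw [Finset.card_le_one]
    intro s hs s' hs'
    obtain ⟨hs, hsp⟩ := Finset.mem_filter.1 hs
    obtain ⟨hs', hsp'⟩ := Finset.mem_filter.1 hs'
    obtain ⟨hsI, hsy⟩ := (hmemJ y s).1 hs
    obtain ⟨hsY, hss, hs1⟩ := (hmemI s).1 hsI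
    obtain ⟨hsI', hsy'⟩ := (hmemJ y s').1 hs'
    obtain ⟨hsY', hss', hs1'⟩ := (hmemI s').1 hsI'
    by_contra hne
    have hw1 : s * s' ≠ 1 := by
      intro h
      apply hne
      calc s = s * (s' * s') := by rw [hss', mul_one]
        _ = s' := by rw [← mul_assoc, h, one_mul]
    exact (cent_of_inverted D hyf hss hs1 hsy).2.1 (s * s') (commute_of_two_inverting hsy hsy') hw1 p
      (by rw [mul_smul, hsp', hsp])
  -- pairs with fixed-point-free product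
  obtain ⟨FF, hFFdef⟩ : ∃ FF : Finset (G × G),
      FF = I.offDiag.filter (fun p => ∀ c : Ω, (p.1 * p.2) • c ≠ c) := ⟨_, rfl⟩
  have hFle : FF.card ≤ ∑ y ∈ YY, (J y).card := by
    rw [← Finset.card_sigma]
    apply Finset.card_le_card_of_injOn (fun p => (⟨p.1 * p.2, p.1⟩ : (_ : G) × G))
    · intro p hp
      rw [hFFdef] at hp
      obtain ⟨hp, hpf⟩ := Finset.mem_filter.1 hp
      obtain ⟨h1, h2, -⟩ := Finset.mem_offDiag.1 hp
      obtain ⟨hsY, hss, hs1⟩ := (hmemI p.1).1 h1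
      obtain ⟨hsY', hss', hs1'⟩ := (hmemI p.2).1 h2
      have hi : p.1⁻¹ = p.1 := inv_eq_of_mul_eq_one_left hss
      have hi' : p.2⁻¹ = p.2 := inv_eq_of_mul_eq_one_left hss'
      change (⟨p.1 * p.2, p.1⟩ : (_ : G) × G) ∈ YY.sigma J
      rw [Finset.mem_sigma]
      refine ⟨(hmemYY _).2 ⟨Y.mul_mem hsY hsY', hpf⟩, (hmemJ _ _).2 ⟨h1, ?_⟩⟩
      change p.1 * (p.1 * p.2) * p.1⁻¹ = (p.1 * p.2)⁻¹
      rw [mul_inv_rev, hi, hi', ← mul_assoc, hss, one_mul]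
    · intro p _ p' _ h
      have h1 : p.1 * p.2 = p'.1 * p'.2 := congrArg Sigma.fst h
      have h2 : p.1 = p'.1 := by
        have := (Sigma.mk.inj_iff.1 h).2
        exact eq_of_heq this
      rw [h2] at h1
      exact Prod.ext h2 (mul_left_cancel h1)
  -- pointwise inequality
  have hpt : ∀ p ∈ I.offDiag, 2 ≤ 2 * (if ∀ c : Ω, (p.1 * p.2) • c ≠ c then 1 else 0)
      + (Δf.filter (fun c => p.1 • c = p.2 • c)).card
      + (Δf.filter (fun c => p.1 • c = c ∧ p.2 • c = c)).card := by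
    intro p hp
    obtain ⟨h1, h2, hne⟩ := Finset.mem_offDiag.1 hp
    obtain ⟨hsY, hss, hs1⟩ := (hmemI p.1).1 h1
    obtain ⟨hsY', hss', hs1'⟩ := (hmemI p.2).1 h2
    split_ifs with hf
    · omega
    · push Not at hf
      obtain ⟨c, hc⟩ := hf
      have hw1 : p.1 * p.2 ≠ 1 := by
        intro h
        apply hne
        calc p.1 = p.1 * (p.2 * p.2) := by rw [hss', mul_one]
          _ = p.2 := by rw [← mul_assoc, h, one_mul]
      have hcΔ : c ∈ Δ := hfix _ (Y.mul_mem hsY hsY') hw1 c hc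
      have hcc : p.1 • c = p.2 • c := by
        calc p.1 • c = p.1 • ((p.1 * p.2) • c) := by rw [hc]
          _ = (p.1 * p.1) • p.2 • c := by rw [mul_smul, mul_smul]
          _ = p.2 • c := by rw [hss, one_smul]
      have hcA : c ∈ Δf.filter (fun c => p.1 • c = p.2 • c) :=
        Finset.mem_filter.2 ⟨(hmemΔ c).2 hcΔ, hcc⟩
      by_cases hfx : p.1 • c = c
      · have hcB : c ∈ Δf.filter (fun c => p.1 • c = c ∧ p.2 • c = c) :=
          Finset.mem_filter.2 ⟨(hmemΔ c).2 hcΔ, hfx, hcc ▸ hfx⟩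
        have := Finset.card_pos.2 ⟨c, hcA⟩
        have := Finset.card_pos.2 ⟨c, hcB⟩
        omega
      · have hdA : p.1 • c ∈ Δf.filter (fun c => p.1 • c = p.2 • c) := by
          refine Finset.mem_filter.2 ⟨(hmemΔ _).2 ((hY _ hsY c).2 hcΔ), ?_⟩
          rw [← mul_smul, hss, one_smul, hcc, ← mul_smul, hss', one_smul]
        have : 1 < (Δf.filter (fun c => p.1 • c = p.2 • c)).card :=
          Finset.one_lt_card.2 ⟨p.1 • c, hdA, c, hcA, hfx⟩
        omega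
  -- summing
  have hsum := Finset.sum_le_sum hpt
  rw [Finset.sum_const, smul_eq_mul, Finset.sum_add_distrib, Finset.sum_add_distrib,
    ← Finset.mul_sum, ← Finset.card_filter, ← hFFdef, Finset.offDiag_card, hIcard] at hsum
  have hS1 : ∑ p ∈ I.offDiag, (Δf.filter (fun c => p.1 • c = p.2 • c)).card
      ≤ (q + 1) * ((q + 1) * ((q - 1) * (q - 1) - (q - 1))) := by
    have hsw := Finset.sum_card_bipartiteAbove_eq_sum_card_bipartiteBelow (s := I.offDiag) (t := Δf)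
      (fun (p : G × G) (c : Ω) => p.1 • c = p.2 • c)
    change ∑ p ∈ I.offDiag, (Δf.filter (fun c => p.1 • c = p.2 • c)).card = _ at hsw
    rw [hsw]
    have hb : ∀ c ∈ Δf, (I.offDiag.bipartiteBelow (fun (p : G × G) (c : Ω) => p.1 • c = p.2 • c) c).card
        ≤ (q + 1) * ((q - 1) * (q - 1) - (q - 1)) := by
      intro c hc
      have hsub : I.offDiag.bipartiteBelow (fun (p : G × G) (c : Ω) => p.1 • c = p.2 • c) c
          ⊆ Δf.biUnion (fun d => (I2 c d).offDiag) := by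
        intro p hp
        obtain ⟨hp, hpc⟩ := Finset.mem_filter.1 hp
        obtain ⟨h1, h2, hne⟩ := Finset.mem_offDiag.1 hp
        obtain ⟨hsY, hss, hs1⟩ := (hmemI p.1).1 h1
        obtain ⟨hsY', hss', hs1'⟩ := (hmemI p.2).1 h2
        rw [Finset.mem_biUnion]
        refine ⟨p.1 • c, (hmemΔ _).2 ((hY _ hsY c).2 ((hmemΔ c).1 hc)), ?_⟩
        rw [Finset.mem_offDiag]
        exact ⟨(hmemI2 _ _ _).2 ⟨hss, hs1, rfl⟩, (hmemI2 _ _ _).2 ⟨hss', hs1', hpc.symm⟩, hne⟩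
      refine (Finset.card_le_card hsub).trans ?_
      refine (Finset.card_biUnion_le_card_mul _ _ ((q - 1) * (q - 1) - (q - 1)) ?_).trans
        (by rw [hΔf])
      intro d _
      rw [Finset.offDiag_card, hI2]
    refine (Finset.sum_le_sum hb).trans ?_
    rw [Finset.sum_const, hΔf, smul_eq_mul]
  have hS2 : ∑ p ∈ I.offDiag, (Δf.filter (fun c => p.1 • c = c ∧ p.2 • c = c)).card
      ≤ (q + 1) * ((q - 1) * (q - 1) - (q - 1)) := by
    have hsw := Finset.sum_card_bipartiteAbove_eq_sum_card_bipartiteBelow (s := I.offDiag) (t := Δf)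
      (fun (p : G × G) (c : Ω) => p.1 • c = c ∧ p.2 • c = c)
    change ∑ p ∈ I.offDiag, (Δf.filter (fun c => p.1 • c = c ∧ p.2 • c = c)).card = _ at hsw
    rw [hsw]
    have hb : ∀ c ∈ Δf,
        (I.offDiag.bipartiteBelow (fun (p : G × G) (c : Ω) => p.1 • c = c ∧ p.2 • c = c) c).card
        ≤ (q - 1) * (q - 1) - (q - 1) := by
      intro c hc
      have hsub : I.offDiag.bipartiteBelow (fun (p : G × G) (c : Ω) => p.1 • c = c ∧ p.2 • c = c) c
          ⊆ (I2 c c).offDiag := by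
        intro p hp
        obtain ⟨hp, hpc, hpc'⟩ := Finset.mem_filter.1 hp
        obtain ⟨h1, h2, hne⟩ := Finset.mem_offDiag.1 hp
        obtain ⟨hsY, hss, hs1⟩ := (hmemI p.1).1 h1
        obtain ⟨hsY', hss', hs1'⟩ := (hmemI p.2).1 h2
        rw [Finset.mem_offDiag]
        exact ⟨(hmemI2 _ _ _).2 ⟨hss, hs1, hpc⟩, (hmemI2 _ _ _).2 ⟨hss', hs1', hpc'⟩, hne⟩
      refine (Finset.card_le_card hsub).trans ?_
      rw [Finset.offDiag_card, hI2]
    refine (Finset.sum_le_sum hb).trans ?_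
    rw [Finset.sum_const, hΔf, smul_eq_mul]
  -- conclusion
  by_contra hlt
  push Not at hlt
  have hyYY : y ∈ YY := (hmemYY y).2 ⟨hy, hyf⟩
  have hstrict : ∑ y ∈ YY, (J y).card < ∑ y ∈ YY, (q + 1) :=
    Finset.sum_lt_sum hJle ⟨y, hyYY, hlt⟩
  rw [Finset.sum_const, smul_eq_mul] at hstrict
  obtain ⟨k, rfl⟩ : ∃ k, q = k + 2 := ⟨q - 2, by have := D.hq; omega⟩
  have e1 : k + 2 - 1 = k + 1 := rfl
  have e2 : k + 2 + 1 = k + 3 := rfl
  rw [e1, e2] at hsum hS1 hS2 hfpf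
  rw [e2] at hstrict
  exact torus_arith (F := FF.card) (Yc := YY.card) (k := k) (by omega) (by omega) hfpf

theorem exists_torus_of (D : ZT a b Q Z E t q) (Y : Subgroup G) (Δ : Set Ω)
    (hY : ∀ g ∈ Y, ∀ c, g • c ∈ Δ ↔ c ∈ Δ)
    (hn : Δ.ncard = q + 1)
    (hinv : ∀ s : G, s * s = 1 → ∀ c ∈ Δ, s • c = c → s ∈ Y)
    (hfix : ∀ y ∈ Y, y ≠ 1 → ∀ c, y • c = c → c ∈ Δ)
    (hfpf : 2 * Nat.card {y : G // y ∈ Y ∧ ∀ c : Ω, y • c ≠ c} + q * (q - 1)
      = (q + 1) * q * (q - 1))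
    {y : G} (hy : y ∈ Y) (hyf : ∀ c : Ω, y • c ≠ c) :
    (∃ s ∈ Y, s * s = 1 ∧ s ≠ 1 ∧ s * y * s⁻¹ = y⁻¹) ∧
      ∃ A : Subgroup G, A ≤ Y ∧ (∀ x ∈ A, x * y = y * x) ∧ Nat.card A = q + 1 := by
  have hc := torus_count D Y Δ hY hn hinv hfix hfpf hy hyf
  obtain ⟨⟨s₀, ⟨hs₀Y, hss₀, hs₀1⟩, hs₀y⟩⟩ := (Nat.card_pos_iff.1 (lt_of_lt_of_le (Nat.succ_pos q) hc)).1
  refine ⟨⟨s₀, hs₀Y, hss₀, hs₀1, hs₀y⟩, Y ⊓ Subgroup.centralizer ({y} : Set G), inf_le_left, ?_, ?_⟩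
  · intro x hx
    have := Subgroup.mem_centralizer_iff.1 (Subgroup.mem_inf.1 hx).2 y rfl
    exact this.symm
  · have hmem : ∀ x : G, x ∈ Y ⊓ Subgroup.centralizer ({y} : Set G) ↔ x ∈ Y ∧ x * y = y * x := by
      intro x
      rw [Subgroup.mem_inf, Subgroup.mem_centralizer_iff]
      constructor
      · rintro ⟨h1, h2⟩
        exact ⟨h1, (h2 y rfl).symm⟩
      · rintro ⟨h1, h2⟩
        refine ⟨h1, ?_⟩
        intro h hh
        rw [Set.mem_singleton_iff.1 hh]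
        exact h2.symm
    apply le_antisymm
    · obtain ⟨p, hp⟩ : Δ.Nonempty := Set.nonempty_of_ncard_ne_zero (by omega)
      rw [← hn, ← Nat.card_coe_set_eq]
      apply Nat.card_le_card_of_injective
        (fun x : ↥(Y ⊓ Subgroup.centralizer ({y} : Set G)) =>
          (⟨x.1 • p, (hY x.1 ((hmem x.1).1 x.2).1 p).2 hp⟩ : Δ))
      intro x x' h
      have h1 : x.1 • p = x'.1 • p := congrArg Subtype.val h
      by_contra hne
      have h2 : x'.1⁻¹ * x.1 ≠ 1 := by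
        intro h3
        apply hne
        apply Subtype.ext
        exact (inv_mul_eq_one.1 h3).symm
      have h3 : x'.1⁻¹ * x.1 ∈ Y ⊓ Subgroup.centralizer ({y} : Set G) :=
        Subgroup.mul_mem _ (Subgroup.inv_mem _ x'.2) x.2
      exact (cent_of_inverted D hyf hss₀ hs₀1 hs₀y).2.1 _ ((hmem _).1 h3).2 h2 p
        (by rw [mul_smul, h1, inv_smul_smul])
    · refine hc.trans ?_
      apply Nat.card_le_card_of_injective
        (fun s : {s : G // (s ∈ Y ∧ s * s = 1 ∧ s ≠ 1) ∧ s * y * s⁻¹ = y⁻¹} =>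
          (⟨s₀ * s.1, (hmem _).2 ⟨Y.mul_mem hs₀Y s.2.1.1, commute_of_two_inverting hs₀y s.2.2⟩⟩ :
            ↥(Y ⊓ Subgroup.centralizer ({y} : Set G))))
      intro s s' h
      have h1 : s₀ * s.1 = s₀ * s'.1 := congrArg Subtype.val h
      exact Subtype.ext (mul_left_cancel h1)

theorem exists_torus (D : ZT a b Q Z E t q) {f : G} (hf : f ∈ Z) (hfix : t • (f • b) = f • b)
    {y : G} (hy : y ∈ stabSet G (blk a b Z)) (hfpf : ∀ c : Ω, y • c ≠ c) :
    (∃ s ∈ stabSet G (blk a b Z), s * s = 1 ∧ s ≠ 1 ∧ s * y * s⁻¹ = y⁻¹) ∧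
      ∃ A : Subgroup G, A ≤ stabSet G (blk a b Z) ∧ (∀ x ∈ A, x * y = y * x) ∧
        Nat.card A = q + 1 :=
  exists_torus_of D (stabSet G (blk a b Z)) (blk a b Z) (fun g hg => hg)
    (Cfsg.Agent.Lib.Helper69.Suz3.ncard_blk D)
    (fun s hs c hc hsc => Cfsg.Agent.Lib.Helper71.Suz3.invol_mem D hf hfix hs hc hsc)
    (fun y hy hy1 c hc => Cfsg.Agent.Lib.Helper71.Suz3.fix_mem D hf hfix hy hy1 hc)
    (Cfsg.Agent.Lib.Helper71.Suz3.card_fpf_Y D hf hfix) hy hfpf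

end Cfsg.Agent.Lib.Helper66.Suz3
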