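import Mathlib
import Cfsg.Agent.Lib.Helper99.SP8.Defs
import Cfsg.Agent.Lib.Helper50.QuadIso

set_option autoImplicit false
set_option linter.unusedSectionVars false
set_option linter.unusedVariables false

universe u

namespace Cfsg.Agent.Lib.Helper66.SP8

open Module LinearMap QuadraticMap Cfsg.Agent.Lib.Helper99.SP8

/-- DICH -/
theorem isTyp_dich {F V : Type*} [Field F] [Fintype F] [AddCommGroup V] [Module F V]
    [FiniteDimensional F V] (Q : QuadraticForm F V) (c : ℕ) (hdim : finrank F V = 2 * c)
    (hnd : ∀ x, (∀ y, polar Q x y = 0) → x = 0) : IsTyp Q c true ∨ IsTyp Q c false := by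
  classical
  rcases c with _ | d
  · left
    refine ⟨hdim, hnd, ?_⟩
    have hsub : Subsingleton V := by
      rw [← Module.finrank_zero_iff (R := F), hdim]
    have h1 : Nat.card {v : V // Q v = 0} = 1 := by
      rw [Nat.card_eq_one_iff_unique]
      exact ⟨⟨fun a b => Subtype.ext (Subsingleton.elim _ _)⟩, ⟨⟨0, map_zero _⟩⟩⟩
    simp only [cond_true, h1]
    ring
  · obtain ⟨ζ, hζ⟩ := Cfsg.Agent.Lib.Helper50.Quad.exists_noroot (F := F)
    have hab := Cfsg.Agent.Lib.Helper50.Quad.aniso_of_noroot' ζ hζ
    have hQ : Cfsg.Agent.Lib.Helper50.Quad.Nondeg Q ⊤ := by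
      intro w _ hw
      by_contra hcon
      push Not at hcon
      exact hw (hnd w (fun y => hcon y Submodule.mem_top))
    rcases Cfsg.Agent.Lib.Helper50.Quad.classify_even 1 ζ hab d hdim hQ with ⟨g, hg⟩ | ⟨g, hg⟩
    · left
      refine ⟨hdim, hnd, ?_⟩
      have hp := Cfsg.Agent.Lib.Helper50.Quad.card_sing_plus (F := F) d
      rw [← Cfsg.Agent.Lib.Helper50.Quad.card_sing_congr g hg] at hp
      simp only [cond_true]
      have := congrArg (fun t => Fintype.card F * t) hp
      simp only [mul_add] at this
      calc _ = Fintype.card F * Nat.card {v : V // Q v = 0} + Fintype.card F * Fintype.card F ^ d := by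
            rw [pow_succ']
        _ = _ := by rw [this]; ring
    · right
      refine ⟨hdim, hnd, ?_⟩
      have hm := Cfsg.Agent.Lib.Helper50.Quad.card_sing_minus 1 ζ hab d
      rw [← Cfsg.Agent.Lib.Helper50.Quad.card_sing_congr g hg] at hm
      simp only [cond_false]
      have := congrArg (fun t => Fintype.card F * t) hm
      simp only [mul_add] at this
      calc _ = Fintype.card F * Nat.card {v : V // Q v = 0}
            + Fintype.card F * Fintype.card F ^ (d + 1) := by
            rw [← pow_succ']
        _ = _ := by rw [this]; ring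

end Cfsg.Agent.Lib.Helper66.SP8
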