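import Mathlib
import Cfsg.Agent.Lib.Helper99.SP8.Defs
import Cfsg.Agent.Lib.Helper50.QuadIso
import Cfsg.Agent.Lib.Helper11.PGBADD

set_option autoImplicit false
set_option linter.unusedSectionVars false
set_option linter.unusedVariables false
set_option linter.style.haveILetI false

universe u

namespace Cfsg.Agent.Lib.Helper66.SP8

open Module LinearMap QuadraticMap Cfsg.Agent.Lib.Helper99.SP8

section
variable {F V : Type*} [Field F] [Fintype F] [AddCommGroup V] [Module F V] [FiniteDimensional F V]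

/-- the number of vectors of given non-zero norm does not depend on the norm -/
theorem qadd_const (Q : QuadraticForm F V) {c : ℕ} {ε : Bool} (h : IsTyp Q c ε) (s : F) (hs : s ≠ 0) :
    Nat.card {v : V // Q v = s} = Nat.card {v : V // Q v = 1} := by
  classical
  obtain ⟨hdim, hnd, -⟩ := h
  rcases c with _ | d
  · have hsub : Subsingleton V := by
      rw [← Module.finrank_zero_iff (R := F), hdim]
    have h0 : ∀ v : V, Q v = 0 := fun v => by rw [Subsingleton.elim v 0, map_zero]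
    have e1 : IsEmpty {v : V // Q v = s} := ⟨fun v => hs (by rw [← v.2, h0])⟩
    have e2 : IsEmpty {v : V // Q v = 1} := ⟨fun v => one_ne_zero (α := F) (by rw [← v.2, h0])⟩
    rw [Nat.card_of_isEmpty, Nat.card_of_isEmpty]
  · have hQ : Cfsg.Agent.Lib.Helper50.Quad.Nondeg Q ⊤ := by
      intro w _ hw
      by_contra hcon
      push Not at hcon
      exact hw (hnd w (fun y => hcon y Submodule.mem_top))
    have hsm : ∀ v, (s⁻¹ • Q) v = s⁻¹ * Q v := fun v => rfl
    have hQ' : Cfsg.Agent.Lib.Helper50.Quad.Nondeg (s⁻¹ • Q) ⊤ := by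
      intro w hw hw0
      obtain ⟨w', hw', hne⟩ := hQ w hw hw0
      refine ⟨w', hw', ?_⟩
      have : polar (s⁻¹ • Q) w w' = s⁻¹ * polar Q w w' := by
        simp only [QuadraticMap.polar, hsm]; ring
      rw [this]
      exact mul_ne_zero (inv_ne_zero hs) hne
    have hcard : Nat.card {v : V // Q v = 0} = Nat.card {v : V // (s⁻¹ • Q) v = 0} := by
      refine Nat.card_congr (Equiv.subtypeEquivRight (fun v => ?_))
      rw [hsm, mul_eq_zero, or_iff_right (inv_ne_zero hs)]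
    obtain ⟨g, hg⟩ := Cfsg.Agent.Lib.Helper50.Quad.iso_of_card_sing d hdim hdim hQ hQ' hcard
    symm
    refine Nat.card_congr (g.toEquiv.subtypeEquiv (fun v => ?_))
    change Q v = 1 ↔ Q (g v) = s
    rw [← hg, hsm]
    constructor
    · intro h1
      field_simp at h1
      exact h1
    · intro h1
      rw [h1, inv_mul_cancel₀ hs]

theorem qadd_total (Q : QuadraticForm F V) {c : ℕ} {ε : Bool} (h : IsTyp Q c ε) :
    Nat.card {v : V // Q v = 0} + (Fintype.card F - 1) * Nat.card {v : V // Q v = 1}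
      = Fintype.card F ^ (2 * c) := by
  classical
  haveI : Finite V := Module.finite_of_finite F
  have h1 : Nat.card V = Fintype.card F ^ (2 * c) := by
    rw [Module.natCard_eq_pow_finrank (K := F), h.1, Nat.card_eq_fintype_card]
  rw [← h1, ← Nat.card_congr (Equiv.sigmaFiberEquiv Q), Nat.card_sigma]
  have hterm : ∀ s : F, Nat.card {v : V // Q v = s}
      = if s = 0 then Nat.card {v : V // Q v = 0} else Nat.card {v : V // Q v = 1} := by
    intro s
    split_ifs with hs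
    · rw [hs]
    · exact qadd_const Q h s hs
  rw [Finset.sum_congr rfl (fun s _ => hterm s)]
  rw [Finset.sum_ite, Finset.sum_const, Finset.sum_const, Finset.filter_eq' Finset.univ (0 : F),
    if_pos (Finset.mem_univ _), Finset.card_singleton, one_smul, smul_eq_mul,
    Finset.filter_ne' Finset.univ (0 : F), Finset.card_erase_of_mem (Finset.mem_univ _),
    Finset.card_univ]

end

/-- the count of singular vectors in an orthogonal sum -/
theorem qadd_count {F V₁ V₂ : Type*} [Field F] [Fintype F] [AddCommGroup V₁] [Module F V₁]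
    [FiniteDimensional F V₁] [AddCommGroup V₂] [Module F V₂] [FiniteDimensional F V₂]
    (Q₁ : QuadraticForm F V₁) (Q₂ : QuadraticForm F V₂) {c₁ c₂ : ℕ} {ε₁ ε₂ : Bool}
    (h₁ : IsTyp Q₁ c₁ ε₁) (h₂ : IsTyp Q₂ c₂ ε₂) :
    Nat.card {v : V₁ × V₂ // (Q₁.prod Q₂) v = 0}
      = Nat.card {v : V₁ // Q₁ v = 0} * Nat.card {v : V₂ // Q₂ v = 0}
        + (Fintype.card F ^ (2 * c₁) - Nat.card {v : V₁ // Q₁ v = 0}) * Nat.card {v : V₂ // Q₂ v = 1} := by
  classical
  haveI : Finite V₁ := Module.finite_of_finite F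
  haveI : Finite V₂ := Module.finite_of_finite F
  haveI : Fintype V₁ := Fintype.ofFinite V₁
  have hV₁ : Fintype.card V₁ = Fintype.card F ^ (2 * c₁) := by
    rw [← Nat.card_eq_fintype_card, Module.natCard_eq_pow_finrank (K := F), h₁.1,
      Nat.card_eq_fintype_card]
  have e0 : Nat.card {v : V₁ × V₂ // (Q₁.prod Q₂) v = 0}
      = Nat.card {v : V₁ × V₂ // Q₁ v.1 + Q₂ v.2 = 0} := rfl
  rw [e0, Nat.card_congr (Equiv.subtypeProdEquivSigmaSubtype
    (fun (x : V₁) (y : V₂) => Q₁ x + Q₂ y = 0)), Nat.card_sigma]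
  have hterm : ∀ x : V₁, Nat.card {y : V₂ // Q₁ x + Q₂ y = 0}
      = if Q₁ x = 0 then Nat.card {v : V₂ // Q₂ v = 0} else Nat.card {v : V₂ // Q₂ v = 1} := by
    intro x
    split_ifs with hx
    · rw [hx]
      refine Nat.card_congr (Equiv.subtypeEquivRight (fun y => ?_))
      rw [zero_add]
    · rw [← qadd_const Q₂ h₂ (-Q₁ x) (neg_ne_zero.2 hx)]
      refine Nat.card_congr (Equiv.subtypeEquivRight (fun y => ?_))
      rw [add_comm, eq_neg_iff_add_eq_zero]
  simp only [hterm]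
  have hc1 : (Finset.univ.filter (fun x : V₁ => Q₁ x = 0)).card = Nat.card {v : V₁ // Q₁ v = 0} := by
    rw [Nat.card_eq_fintype_card, Fintype.card_subtype]
  have hc2 : (Finset.univ.filter (fun x : V₁ => ¬ Q₁ x = 0)).card
      = Fintype.card F ^ (2 * c₁) - Nat.card {v : V₁ // Q₁ v = 0} := by
    rw [← hc1, ← hV₁, ← Finset.card_univ, ← Finset.card_filter_add_card_filter_not
      (s := (Finset.univ : Finset V₁)) (fun x : V₁ => Q₁ x = 0), Nat.add_sub_cancel_left]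
  rw [Finset.sum_ite, Finset.sum_const, Finset.sum_const, hc1, hc2, smul_eq_mul, smul_eq_mul]

/-- integer arithmetic behind QADD; `η = 1` plus, `η = -1` minus -/
theorem qadd_arith {q A B N N₁ N₂ m₂ η : ℤ} (hq : q ≠ 0) (hq1 : q - 1 ≠ 0)
    (ha : q * N₁ = A * A + (q - 1) * A)
    (hb : q * N₂ = B * B + η * (q - 1) * B)
    (ht : N₂ + (q - 1) * m₂ = B * B)
    (hN : N = N₁ * N₂ + (A * A - N₁) * m₂) :
    q * N = (A * B) * (A * B) + η * (q - 1) * (A * B) := by
  have hm : q * m₂ = B * B - η * B := by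
    apply mul_left_cancel₀ hq1
    linear_combination q * ht - hb
  apply mul_left_cancel₀ hq
  rw [hN]
  linear_combination (q * N₂ - q * m₂) * ha + (A * A + (q - 1) * A) * hb
    + (q * A * A - A * A - (q - 1) * A) * hm

/-- QADD -/
theorem QT_add {F : Type u} [Field F] [Fintype F] {ε : Bool} {c₁ c₂ K₁ K₂ : ℕ}
    (h₁ : QT F true c₁ K₁) (h₂ : QT F ε c₂ K₂) : QT F ε (c₁ + c₂) (Nat.lcm K₁ K₂) := by
  classical
  obtain ⟨V₁, _, _, _, Q₁, T₁, ht₁, hi₁, ho₁⟩ := h₁
  obtain ⟨V₂, _, _, _, Q₂, T₂, ht₂, hi₂, ho₂⟩ := h₂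
  refine ⟨V₁ × V₂, inferInstance, inferInstance, inferInstance, Q₁.prod Q₂,
    LinearMap.prodMap T₁ T₂, ⟨?_, ?_, ?_⟩, ?_, Cfsg.Agent.Lib.Helper11.PGB.add_ord ho₁ ho₂⟩
  · rw [finrank_prod, ht₁.1, ht₂.1]; ring
  · intro x hx
    have h1 : x.1 = 0 := by
      apply ht₁.2.1
      intro y
      have := hx (y, 0)
      rw [polar_prod] at this
      simpa [QuadraticMap.polar] using this
    have h2 : x.2 = 0 := by
      apply ht₂.2.1
      intro y
      have := hx (0, y)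
      rw [polar_prod] at this
      simpa [QuadraticMap.polar] using this
    exact Prod.ext h1 h2
  · have hN := qadd_count Q₁ Q₂ ht₁ ht₂
    have htot₁ := qadd_total Q₁ ht₁
    have htot₂ := qadd_total Q₂ ht₂
    have hle : Nat.card {v : V₁ // Q₁ v = 0} ≤ Fintype.card F ^ (2 * c₁) := by omega
    have hq1 : 1 < Fintype.card F := Fintype.one_lt_card
    have hc₁ := ht₁.2.2
    have hc₂ := ht₂.2.2
    simp only [cond_true] at hc₁
    obtain ⟨q, hq⟩ : ∃ q, q = Fintype.card F := ⟨_, rfl⟩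
    obtain ⟨N, hNd⟩ : ∃ N, N = Nat.card {v : V₁ × V₂ // (Q₁.prod Q₂) v = 0} := ⟨_, rfl⟩
    obtain ⟨N₁, hN₁⟩ : ∃ N₁, N₁ = Nat.card {v : V₁ // Q₁ v = 0} := ⟨_, rfl⟩
    obtain ⟨N₂, hN₂⟩ : ∃ N₂, N₂ = Nat.card {v : V₂ // Q₂ v = 0} := ⟨_, rfl⟩
    obtain ⟨m₂, hm₂⟩ : ∃ m₂, m₂ = Nat.card {v : V₂ // Q₂ v = 1} := ⟨_, rfl⟩
    rw [← hq, ← hN₁] at hc₁ hle
    rw [← hq, ← hN₂] at hc₂
    rw [← hq, ← hN₂, ← hm₂] at htot₂
    rw [← hq, ← hNd, ← hN₁, ← hN₂, ← hm₂] at hN
    rw [← hq, ← hNd]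
    rw [← hq] at hq1
    have hqz : (q : ℤ) ≠ 0 := by positivity
    have hq1z : (q : ℤ) - 1 ≠ 0 := by
      have : (1 : ℤ) < q := by exact_mod_cast hq1
      omega
    have ha : (q : ℤ) * N₁ = (q : ℤ) ^ c₁ * (q : ℤ) ^ c₁ + ((q : ℤ) - 1) * (q : ℤ) ^ c₁ := by
      have : (q : ℤ) * N₁ + (q : ℤ) ^ c₁ = (q : ℤ) ^ (2 * c₁) + (q : ℤ) ^ (c₁ + 1) := by
        exact_mod_cast hc₁
      rw [two_mul, pow_add, pow_succ] at this
      linear_combination this
    have htz : (N₂ : ℤ) + ((q : ℤ) - 1) * m₂ = (q : ℤ) ^ c₂ * (q : ℤ) ^ c₂ := by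
      have : (N₂ : ℤ) + ((q - 1 : ℕ) : ℤ) * m₂ = (q : ℤ) ^ (2 * c₂) := by exact_mod_cast htot₂
      rw [Nat.cast_sub hq1.le, Nat.cast_one, two_mul, pow_add] at this
      exact this
    have hNz : (N : ℤ) = (N₁ : ℤ) * N₂ + ((q : ℤ) ^ c₁ * (q : ℤ) ^ c₁ - N₁) * m₂ := by
      have : (N : ℤ) = (N₁ : ℤ) * N₂ + ((q ^ (2 * c₁) - N₁ : ℕ) : ℤ) * m₂ := by exact_mod_cast hN
      rw [Nat.cast_sub hle, Nat.cast_pow, two_mul, pow_add] at this
      exact this
    cases ε
    · simp only [cond_false] at hc₂ ⊢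
      have hb : (q : ℤ) * N₂ = (q : ℤ) ^ c₂ * (q : ℤ) ^ c₂ + (-1) * ((q : ℤ) - 1) * (q : ℤ) ^ c₂ := by
        have : (q : ℤ) * N₂ + (q : ℤ) ^ (c₂ + 1) = (q : ℤ) ^ (2 * c₂) + (q : ℤ) ^ c₂ := by
          exact_mod_cast hc₂
        rw [two_mul, pow_add, pow_succ] at this
        linear_combination this
      have key := qadd_arith hqz hq1z ha hb htz hNz
      have : (q : ℤ) * N + (q : ℤ) ^ (c₁ + c₂ + 1) = (q : ℤ) ^ (2 * (c₁ + c₂)) + (q : ℤ) ^ (c₁ + c₂) := by
        rw [key]; ring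
      exact_mod_cast this
    · simp only [cond_true] at hc₂ ⊢
      have hb : (q : ℤ) * N₂ = (q : ℤ) ^ c₂ * (q : ℤ) ^ c₂ + 1 * ((q : ℤ) - 1) * (q : ℤ) ^ c₂ := by
        have : (q : ℤ) * N₂ + (q : ℤ) ^ c₂ = (q : ℤ) ^ (2 * c₂) + (q : ℤ) ^ (c₂ + 1) := by
          exact_mod_cast hc₂
        rw [two_mul, pow_add, pow_succ] at this
        linear_combination this
      have key := qadd_arith hqz hq1z ha hb htz hNz
      have : (q : ℤ) * N + (q : ℤ) ^ (c₁ + c₂) = (q : ℤ) ^ (2 * (c₁ + c₂)) + (q : ℤ) ^ (c₁ + c₂ + 1) := by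
        rw [key]; ring
      exact_mod_cast this
  · intro v
    rw [QuadraticMap.prod_apply, QuadraticMap.prod_apply, LinearMap.prodMap_apply, hi₁, hi₂]

end Cfsg.Agent.Lib.Helper66.SP8
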