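import Mathlib
import Cfsg.Agent.Lib.Helper99.SP8.Defs
import Cfsg.Agent.Lib.Helper48.SpTori
import Cfsg.Agent.Lib.Helper70.Rank2
import Cfsg.Agent.Lib.Helper66.SP8DICH

set_option autoImplicit false
set_option linter.unusedSectionVars false
set_option linter.unusedVariables false
set_option linter.style.haveILetI false

universe u

namespace Cfsg.Agent.Lib.Helper66.SP8

open Module LinearMap QuadraticMap Cfsg.Agent.Lib.Helper48 Cfsg.Agent.Lib.Helper99.SP8

/-- arithmetic: the plus type count is incompatible with a free action of a group of order `q^e+1` -/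
theorem torm_arith {q B k N : ℕ} (hq2 : q % 2 = 0) (hq : 2 ≤ q) (hB : 1 ≤ B)
    (h1 : q * N + q * B = (q * B) * (q * B) + q * (q * B)) (h2 : N = 1 + (q * B + 1) * k) : False := by
  have h3 : N + B = q * B * B + q * B := by
    apply Nat.eq_of_mul_eq_mul_left (show 0 < q by omega)
    calc q * (N + B) = q * N + q * B := by ring
      _ = (q * B) * (q * B) + q * (q * B) := h1
      _ = q * (q * B * B + q * B) := by ring
  have h4 : (q * B + 1) * (B + 1) = (q * B + 1) * k + 2 * (B + 1) := by
    calc (q * B + 1) * (B + 1) = (q * B * B + q * B) + B + 1 := by ring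
      _ = (N + B) + B + 1 := by rw [h3]
      _ = (q * B + 1) * k + 2 * (B + 1) := by rw [h2]; ring
  have h5 : (q * B + 1) ∣ 2 * (B + 1) := by
    have : (q * B + 1) ∣ (q * B + 1) * k + 2 * (B + 1) := by
      rw [← h4]; exact dvd_mul_right _ _
    exact (Nat.dvd_add_right (dvd_mul_right _ k)).1 this
  have h6 : q * B + 1 ≤ 2 * (B + 1) := Nat.le_of_dvd (by omega) h5
  rcases Nat.lt_or_ge q 4 with hlt | hge
  · have hq' : q = 2 := by omega
    subst hq'
    have h7 : (2 * B + 1) ∣ 1 := by
      have : (2 * B + 1) ∣ (2 * B + 1) + 1 := by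
        have e : 2 * (B + 1) = (2 * B + 1) + 1 := by ring
        rwa [e] at h5
      exact (Nat.dvd_add_right (dvd_refl _)).1 this
    have := Nat.le_of_dvd (by norm_num) h7
    omega
  · have : 4 * B ≤ q * B := Nat.mul_le_mul_right B hge
    omega

theorem torm_aux {F : Type u} [Field F] [Fintype F] [CharP F 2] (K : Type u) [Field K] [Finite K]
    [Algebra F K] (d : ℕ) (hK : finrank F K = 2 * (d + 1)) :
    QT F false (d + 1) (Fintype.card F ^ (d + 1) + 1) := by
  classical
  haveI : Fintype K := Fintype.ofFinite K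
  haveI : FiniteDimensional F K := Module.Finite.of_finite
  haveI : CharP K 2 := charP_of_injective_algebraMap (algebraMap F K).injective 2
  obtain ⟨q, hq⟩ : ∃ q, q = Fintype.card F := ⟨_, rfl⟩
  obtain ⟨Q', hQ'⟩ : ∃ Q', Q' = q ^ (d + 1) := ⟨_, rfl⟩
  rw [← hq, ← hQ']
  have hq1 : 1 < q := hq ▸ Fintype.one_lt_card
  have hQ1 : 1 < Q' := hQ' ▸ Nat.one_lt_pow (by omega) hq1
  have hcard : Fintype.card K = Q' * Q' := by
    rw [← Nat.card_eq_fintype_card, Module.natCard_eq_pow_finrank (K := F), hK,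
      Nat.card_eq_fintype_card, two_mul, pow_add, ← hq, ← hQ']
  obtain ⟨x, hx⟩ := exists_units_orderOf_eq K
  rw [Nat.card_eq_fintype_card, hcard] at hx
  have hfac : Q' * Q' - 1 = (Q' - 1) * (Q' + 1) := by
    obtain ⟨r, hr⟩ : ∃ r, Q' = r + 1 := ⟨Q' - 1, by omega⟩
    rw [hr]
    simp only [Nat.add_sub_cancel]
    have : (r + 1) * (r + 1) = r * (r + 1 + 1) + 1 := by ring
    omega
  obtain ⟨σ, hσ⟩ : ∃ σ : Kˣ, σ = x ^ (Q' - 1) := ⟨_, rfl⟩
  have hσo : orderOf σ = Q' + 1 := by
    rw [hσ, orderOf_pow_of_dvd (by omega) (by rw [hx, hfac]; exact dvd_mul_right _ _), hx, hfac,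
      Nat.mul_div_cancel_left _ (by omega)]
  obtain ⟨φ, hφ⟩ : ∃ φ : K ≃ₐ[F] K, φ = (FiniteField.frobeniusAlgEquivOfAlgebraic F K) ^ (d + 1) :=
    ⟨_, rfl⟩
  have hφa : ∀ y, φ y = y ^ Q' := fun y => by
    rw [hφ, frobEquiv_pow_apply K (d + 1) y, ← hq, ← hQ']
  have hφφ : ∀ y, φ (φ y) = y := by
    intro y
    rw [hφa, hφa, ← pow_mul, ← hcard, FiniteField.pow_card]
  -- elements of the norm one group
  have hnorm : ∀ a : Kˣ, a ∈ Subgroup.zpowers σ → (a : K) * φ (a : K) = 1 := by
    rintro a ⟨k, rfl⟩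
    rw [hφa, ← pow_succ', ← Units.val_pow_eq_pow_val, ← hσo, ← zpow_natCast, ← zpow_mul, mul_comm,
      zpow_mul, zpow_natCast, pow_orderOf_eq_one, one_zpow, Units.val_one]
  have hσφ : (σ : K) * φ (σ : K) = 1 := hnorm σ (Subgroup.mem_zpowers σ)
  obtain ⟨δ, hδ⟩ : ∃ δ : K, δ = (σ : K) + φ (σ : K) := ⟨_, rfl⟩
  have hδφ : φ δ = δ := by
    rw [hδ, map_add, hφφ, add_comm]
  have hδ0 : δ ≠ 0 := by
    intro h
    rw [hδ, ← CharTwo.sub_eq_add, sub_eq_zero, hφa] at h
    have h3 : σ ^ (Q' - 1) = 1 := by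
      apply Units.ext
      rw [Units.val_pow_eq_pow_val, Units.val_one]
      have h4 : (σ : K) ^ (Q' - 1) * (σ : K) = 1 * (σ : K) := by
        rw [← pow_succ, Nat.sub_add_cancel hQ1.le, one_mul]
        exact h.symm
      exact mul_right_cancel₀ σ.ne_zero h4
    have h5 := orderOf_dvd_of_pow_eq_one h3
    rw [hσo] at h5
    have := Nat.le_of_dvd (by omega) h5
    omega
  obtain ⟨θ, hθ⟩ : ∃ θ : K, θ = (σ : K) * δ⁻¹ := ⟨_, rfl⟩
  have hθφ : θ + φ θ = 1 := by
    rw [hθ, map_mul, map_inv₀, hδφ, ← add_mul, ← hδ, mul_inv_cancel₀ hδ0]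
  let b : LinearMap.BilinForm F K := LinearMap.mk₂ F
    (fun x y => Algebra.trace F K (θ * x * φ y))
    (fun x x' y => by rw [mul_add, add_mul, map_add])
    (fun c x y => by rw [mul_smul_comm, smul_mul_assoc, map_smul])
    (fun x y y' => by rw [map_add, mul_add, map_add])
    (fun c x y => by rw [map_smul, mul_smul_comm, map_smul])
  have hb : ∀ x y, b x y = Algebra.trace F K (θ * x * φ y) := fun x y => rfl
  let Q : QuadraticForm F K := LinearMap.BilinMap.toQuadraticMap b
  have hQ : ∀ v : K, Q v = Algebra.trace F K (θ * v * φ v) := fun v => rfl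
  have hpol : ∀ v w : K, polar Q v w = Algebra.trace F K (v * φ w) := by
    intro v w
    rw [LinearMap.BilinMap.polar_toQuadraticMap, hb, hb]
    have h4 := Algebra.trace_eq_of_algEquiv φ (θ * w * φ v)
    have h5 : φ (θ * w * φ v) = φ θ * φ w * v := by
      rw [map_mul φ, map_mul φ, hφφ]
    rw [← h4, h5, ← map_add]
    congr 1
    linear_combination (v * φ w) * hθφ
  have hnd : ∀ x, (∀ y, polar Q x y = 0) → x = 0 := by
    intro x hx
    apply (traceForm_nondegenerate F K).1
    intro y
    have := hx (φ y)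
    rw [hpol, hφφ] at this
    rw [Algebra.traceForm_apply]
    exact this
  have hinv : ∀ a : Kˣ, a ∈ Subgroup.zpowers σ → ∀ v : K, Q ((a : K) * v) = Q v := by
    intro a ha v
    rw [hQ, hQ, map_mul φ]
    congr 1
    linear_combination (θ * v * φ v) * hnorm a ha
  have htyp : IsTyp Q (d + 1) false := by
    rcases isTyp_dich Q (d + 1) hK hnd with h | h
    · exfalso
      obtain ⟨-, -, hc⟩ := h
      simp only [cond_true] at hc
      have hdvd := Cfsg.Agent.Lib.Helper70.Rank2.dvd_card_of_free (A := ↥(Subgroup.zpowers σ)) (X := K)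
        (fun v => v ≠ 0 ∧ Q v = 0)
        (by
          rintro ⟨a, ha⟩ v ⟨hv0, hv⟩
          change (a : K) * v ≠ 0 ∧ Q ((a : K) * v) = 0
          exact ⟨mul_ne_zero a.ne_zero hv0, by rw [hinv a ha, hv]⟩)
        (by
          rintro ⟨a, ha⟩ v ⟨hv0, hv⟩ hav
          have hav' : (a : K) * v = v := hav
          apply Subtype.ext
          apply Units.ext
          change (a : K) = 1
          exact mul_right_cancel₀ hv0 (by rw [hav', one_mul]))
      rw [Nat.card_zpowers, hσo] at hdvd
      obtain ⟨k, hk⟩ := hdvd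
      have hN : Nat.card {v : K // Q v = 0} = 1 + Nat.card {v : K // v ≠ 0 ∧ Q v = 0} := by
        have e1 : {v : K | Q v = 0} = insert 0 {v : K | v ≠ 0 ∧ Q v = 0} := by
          ext v
          simp only [Set.mem_ofPred_eq, Set.mem_insert_iff]
          constructor
          · intro hv
            by_cases h0 : v = 0
            · exact Or.inl h0
            · exact Or.inr ⟨h0, hv⟩
          · rintro (rfl | hv)
            · exact map_zero _
            · exact hv.2
        have e2 : Nat.card {v : K // Q v = 0} = ({v : K | Q v = 0} : Set K).ncard :=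
          Nat.card_coe_set_eq _
        have e3 : Nat.card {v : K // v ≠ 0 ∧ Q v = 0} = ({v : K | v ≠ 0 ∧ Q v = 0} : Set K).ncard :=
          Nat.card_coe_set_eq _
        rw [e2, e3, e1, Set.ncard_insert_of_notMem (by simp) (Set.toFinite _), add_comm]
      rw [hk] at hN
      have hq2 : q % 2 = 0 := by
        rw [hq]
        exact FiniteField.even_card_of_char_two (ringChar.eq F 2)
      refine torm_arith (q := q) (B := q ^ d) (k := k) (N := Nat.card {v : K // Q v = 0}) hq2
        (by omega) (Nat.one_le_pow _ _ (by omega)) ?_ ?_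
      · rw [← hq] at hc
        calc q * Nat.card {v : K // Q v = 0} + q * q ^ d
            = q * Nat.card {v : K // Q v = 0} + q ^ (d + 1) := by rw [pow_succ']
          _ = q ^ (2 * (d + 1)) + q ^ (d + 1 + 1) := hc
          _ = _ := by ring
      · rw [hN, hQ', pow_succ']
    · exact h
  refine ⟨K, inferInstance, inferInstance, inferInstance, Q, LinearMap.mulLeft F (σ : K), htyp, ?_, ?_⟩
  · intro v
    rw [LinearMap.mulLeft_apply]
    exact hinv σ (Subgroup.mem_zpowers σ) v
  · intro j
    rw [← hσo, orderOf_dvd_iff_pow_eq_one, LinearMap.pow_mulLeft]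
    constructor
    · intro h
      have := congrArg (fun f : End F K => f 1) h
      simp only [LinearMap.mulLeft_apply, mul_one, Module.End.one_apply] at this
      exact Units.ext (by rw [Units.val_pow_eq_pow_val, this, Units.val_one])
    · intro h
      rw [← Units.val_pow_eq_pow_val, h, Units.val_one]
      apply LinearMap.ext
      intro y
      simp

/-- TORM -/
theorem QT_torus_minus (F : Type u) [Field F] [Fintype F] [CharP F 2] (e : ℕ) (he : 1 ≤ e) :
    QT F false e (Fintype.card F ^ e + 1) := by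
  obtain ⟨d, rfl⟩ : ∃ d, e = d + 1 := ⟨e - 1, by omega⟩
  haveI : Fact (Nat.Prime 2) := ⟨Nat.prime_two⟩
  haveI : NeZero (2 * (d + 1)) := ⟨by omega⟩
  refine torm_aux (ULift.{u} (FiniteField.Extension F 2 (2 * (d + 1)))) d ?_
  rw [(ULift.moduleEquiv (R := F) (M := FiniteField.Extension F 2 (2 * (d + 1)))).finrank_eq]
  exact FiniteField.finrank_extension F 2 (2 * (d + 1))

end Cfsg.Agent.Lib.Helper66.SP8
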