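import Mathlib
import Cfsg.Agent.Lib.Helper99.SP8.Defs
import Cfsg.Agent.Lib.Helper48.SpTori

set_option autoImplicit false
set_option linter.unusedSectionVars false
set_option linter.unusedVariables false
set_option linter.style.haveILetI false

universe u

namespace Cfsg.Agent.Lib.Helper66.SP8

open Module LinearMap QuadraticMap Cfsg.Agent.Lib.Helper48 Cfsg.Agent.Lib.Helper99.SP8

section
variable {F : Type*} [Field F] [Fintype F] {E : Type*} [Field E] [Finite E] [Algebra F E]

/-- the kernel of `y ↦ tr (x y)` -/
theorem torp_card_ker {e : ℕ} (hE : finrank F E = e + 1) {x : E} (hx : x ≠ 0) :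
    Nat.card {y : E // Algebra.trace F E (x * y) = 0} = Fintype.card F ^ e := by
  classical
  haveI : FiniteDimensional F E := Module.Finite.of_finite
  obtain ⟨f, hf⟩ : ∃ f : E →ₗ[F] F, f = Algebra.traceForm F E x := ⟨_, rfl⟩
  have hfa : ∀ y, f y = Algebra.trace F E (x * y) := fun y => by
    rw [hf, Algebra.traceForm_apply]
  have hne : ∃ y0, f y0 ≠ 0 := by
    by_contra hcon
    push Not at hcon
    apply hx
    apply (traceForm_nondegenerate F E).1
    intro y
    rw [← hf]; exact hcon y
  obtain ⟨y0, hy0⟩ := hne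
  have hsurj : LinearMap.range f = ⊤ := by
    rw [LinearMap.range_eq_top]
    intro a
    refine ⟨(a / f y0) • y0, ?_⟩
    rw [map_smul, smul_eq_mul, div_mul_cancel₀ _ hy0]
  have h1 := LinearMap.finrank_range_add_finrank_ker f
  rw [hsurj, finrank_top, Module.finrank_self, hE] at h1
  have h2 : Nat.card (LinearMap.ker f) = Fintype.card F ^ e := by
    rw [Module.natCard_eq_pow_finrank (K := F), Nat.card_eq_fintype_card]
    congr 1
    omega
  rw [← h2]
  refine Nat.card_congr (Equiv.subtypeEquivRight (fun y => ?_))
  rw [LinearMap.mem_ker, hfa]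

/-- the number of pairs with `tr (x y) = 0` -/
theorem torp_count {e : ℕ} (hE : finrank F E = e + 1) :
    Nat.card {v : E × E // Algebra.trace F E (v.1 * v.2) = 0}
      = Fintype.card F ^ (e + 1) + (Fintype.card F ^ (e + 1) - 1) * Fintype.card F ^ e := by
  classical
  haveI : Fintype E := Fintype.ofFinite E
  have hcard : Fintype.card E = Fintype.card F ^ (e + 1) := by
    rw [← Nat.card_eq_fintype_card, Module.natCard_eq_pow_finrank (K := F), hE,
      Nat.card_eq_fintype_card]
  rw [Nat.card_congr (Equiv.subtypeProdEquivSigmaSubtype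
    (fun x y : E => Algebra.trace F E (x * y) = 0)), Nat.card_sigma]
  have hterm : ∀ x : E, Nat.card {y : E // Algebra.trace F E (x * y) = 0}
      = if x = 0 then Fintype.card F ^ (e + 1) else Fintype.card F ^ e := by
    intro x
    split_ifs with hx
    · subst hx
      rw [← hcard, ← Nat.card_eq_fintype_card]
      refine Nat.card_congr (Equiv.subtypeUnivEquiv (fun y => ?_))
      rw [zero_mul, map_zero]
    · exact torp_card_ker hE hx
  simp only [hterm]
  rw [Finset.sum_ite, Finset.sum_const, Finset.sum_const, Finset.filter_eq' Finset.univ (0 : E),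
    if_pos (Finset.mem_univ _), Finset.card_singleton, one_smul, smul_eq_mul,
    Finset.filter_ne' Finset.univ (0 : E), Finset.card_erase_of_mem (Finset.mem_univ _),
    Finset.card_univ, hcard]

end

theorem torp_aux {F : Type u} [Field F] [Fintype F] (E : Type u) [Field E] [Finite E] [Algebra F E]
    (e : ℕ) (hE : finrank F E = e + 1) : QT F true (e + 1) (Fintype.card F ^ (e + 1) - 1) := by
  classical
  haveI : Fintype E := Fintype.ofFinite E
  haveI : FiniteDimensional F E := Module.Finite.of_finite
  have hcard : Nat.card E = Fintype.card F ^ (e + 1) := by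
    rw [Module.natCard_eq_pow_finrank (K := F), hE, Nat.card_eq_fintype_card]
  obtain ⟨l, hl⟩ := exists_units_orderOf_eq E
  rw [hcard] at hl
  let b : LinearMap.BilinForm F (E × E) :=
    (Algebra.traceForm F E).compl₁₂ (LinearMap.fst F E E) (LinearMap.snd F E E)
  have hb : ∀ v w : E × E, b v w = Algebra.trace F E (v.1 * w.2) := fun v w => rfl
  let Q : QuadraticForm F (E × E) := LinearMap.BilinMap.toQuadraticMap b
  have hQ : ∀ v : E × E, Q v = Algebra.trace F E (v.1 * v.2) := fun v => rfl
  have hpol : ∀ v w : E × E, polar Q v w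
      = Algebra.trace F E (v.1 * w.2) + Algebra.trace F E (w.1 * v.2) := by
    intro v w
    rw [LinearMap.BilinMap.polar_toQuadraticMap, hb, hb]
  let T : End F (E × E) :=
    (LinearMap.mulLeft F (l : E)).prodMap (LinearMap.mulLeft F ((l⁻¹ : Eˣ) : E))
  have hT : ∀ v : E × E, T v = ((l : E) * v.1, ((l⁻¹ : Eˣ) : E) * v.2) := fun v => rfl
  have hTj : ∀ (j : ℕ) (v : E × E), (T ^ j) v = ((l : E) ^ j * v.1, ((l⁻¹ : Eˣ) : E) ^ j * v.2) := by
    intro j
    induction j with
    | zero => intro v; simp
    | succ j ih =>
      intro v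
      rw [pow_succ, Module.End.mul_apply, ih, hT]
      simp only [pow_succ, mul_assoc]
  refine ⟨E × E, inferInstance, inferInstance, inferInstance, Q, T, ⟨?_, ?_, ?_⟩, ?_, ?_⟩
  · rw [Module.finrank_prod, hE]; ring
  · intro x hx
    have h1 : x.1 = 0 := by
      apply (traceForm_nondegenerate F E).1
      intro y
      have := hx (0, y)
      rw [hpol] at this
      simpa [Algebra.traceForm_apply] using this
    have h2 : x.2 = 0 := by
      apply (traceForm_nondegenerate F E).1
      intro y
      have := hx (y, 0)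
      rw [hpol] at this
      simp only [mul_zero, map_zero, zero_add] at this
      rw [Algebra.traceForm_apply, mul_comm]
      exact this
    exact Prod.ext h1 h2
  · simp only [cond_true]
    have hN : Nat.card {v : E × E // Q v = 0}
        = Fintype.card F ^ (e + 1) + (Fintype.card F ^ (e + 1) - 1) * Fintype.card F ^ e :=
      torp_count hE
    rw [hN]
    obtain ⟨a, ha⟩ : ∃ a, Fintype.card F ^ (e + 1) = a + 1 :=
      ⟨Fintype.card F ^ (e + 1) - 1, by
        have : 0 < Fintype.card F ^ (e + 1) := pow_pos Fintype.card_pos _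
        omega⟩
    have h2 : Fintype.card F ^ (2 * (e + 1)) = (a + 1) * (a + 1) := by
      rw [two_mul, pow_add, ha]
    have h3 : Fintype.card F ^ (e + 1 + 1) = Fintype.card F * (a + 1) := by
      rw [pow_succ', ha]
    have h4 : Fintype.card F * Fintype.card F ^ e = a + 1 := by
      rw [← pow_succ', ha]
    rw [h2, h3, ha, Nat.add_sub_cancel]
    calc Fintype.card F * (a + 1 + a * Fintype.card F ^ e) + (a + 1)
        = Fintype.card F * (a + 1) + a * (Fintype.card F * Fintype.card F ^ e) + (a + 1) := by ring
      _ = (a + 1) * (a + 1) + Fintype.card F * (a + 1) := by rw [h4]; ring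
  · intro v
    rw [hQ, hQ, hT]
    have : (l : E) * v.1 * (((l⁻¹ : Eˣ) : E) * v.2) = v.1 * v.2 := by
      have h1 : (l : E) * ((l⁻¹ : Eˣ) : E) = 1 := by
        rw [← Units.val_mul, mul_inv_cancel, Units.val_one]
      linear_combination (v.1 * v.2) * h1
    simp only [this]
  · intro j
    rw [← hl, orderOf_dvd_iff_pow_eq_one]
    constructor
    · intro h
      have := congrArg (fun f : End F (E × E) => (f (1, 1)).1) h
      simp only [hTj, mul_one, Module.End.one_apply] at this
      exact Units.ext (by rw [Units.val_pow_eq_pow_val, this, Units.val_one])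
    · intro h
      apply LinearMap.ext
      intro v
      rw [hTj, ← Units.val_pow_eq_pow_val, ← Units.val_pow_eq_pow_val, inv_pow, h]
      simp

/-- TORP -/
theorem QT_torus_plus (F : Type u) [Field F] [Fintype F] [CharP F 2] (e : ℕ) (he : 1 ≤ e) :
    QT F true e (Fintype.card F ^ e - 1) := by
  obtain ⟨e', rfl⟩ : ∃ e', e = e' + 1 := ⟨e - 1, by omega⟩
  haveI : Fact (Nat.Prime 2) := ⟨Nat.prime_two⟩
  haveI : NeZero (e' + 1) := ⟨by omega⟩
  refine torp_aux (ULift.{u} (FiniteField.Extension F 2 (e' + 1))) e' ?_
  rw [(ULift.moduleEquiv (R := F) (M := FiniteField.Extension F 2 (e' + 1))).finrank_eq]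
  exact FiniteField.finrank_extension F 2 (e' + 1)

end Cfsg.Agent.Lib.Helper66.SP8
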