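import Mathlib
import Cfsg.Agent.Lib.Helper99.SP8.Defs
import Cfsg.Agent.Lib.Helper66.SP8TORP
import Cfsg.Agent.Lib.Helper66.SP8TORM
import Cfsg.Agent.Lib.Helper66.SP8QADD

set_option autoImplicit false
set_option linter.unusedSectionVars false
set_option linter.unusedVariables false

universe u

namespace Cfsg.Agent.Lib.Helper66.SP8

open Module LinearMap QuadraticMap Cfsg.Agent.Lib.Helper99.SP8

theorem real_cop {x y c : ℕ} (hx : x ∣ c - 1) (hy : y ∣ c + 1) (hc : c % 2 = 0) (hc1 : 1 ≤ c) :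
    Nat.Coprime x y := by
  have h1 : Nat.gcd x y ∣ c - 1 := (Nat.gcd_dvd_left x y).trans hx
  have h2 : Nat.gcd x y ∣ c + 1 := (Nat.gcd_dvd_right x y).trans hy
  have h3 : Nat.gcd x y ∣ 2 := by
    have := Nat.dvd_sub h2 h1
    have e : c + 1 - (c - 1) = 2 := by omega
    rwa [e] at this
  rcases (Nat.dvd_prime Nat.prime_two).1 h3 with h | h
  · exact h
  · exfalso
    rw [h] at h2
    omega

/-- REAL -/
theorem real_list (F : Type u) [Field F] [Fintype F] [CharP F 2] :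
    QT F false 4 (Fintype.card F ^ 4 + 1) ∧ QT F false 4 (Fintype.card F ^ 4 - 1) ∧
    QT F false 4 ((Fintype.card F ^ 3 - 1) * (Fintype.card F + 1)) ∧
    QT F false 4 ((Fintype.card F ^ 3 + 1) * (Fintype.card F - 1)) := by
  obtain ⟨q, hq⟩ : ∃ q, q = Fintype.card F := ⟨_, rfl⟩
  have hq2 : q % 2 = 0 := by
    rw [hq]
    exact FiniteField.even_card_of_char_two (ringChar.eq F 2)
  have hq1 : 1 < q := hq ▸ Fintype.one_lt_card
  have hev : ∀ n, 1 ≤ n → (q ^ n) % 2 = 0 := by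
    intro n hn
    obtain ⟨m, rfl⟩ : ∃ m, n = m + 1 := ⟨n - 1, by omega⟩
    rw [pow_succ, Nat.mul_mod, hq2]
    simp
  have hpos : ∀ n, 1 ≤ q ^ n := fun n => Nat.one_le_pow _ _ (by omega)
  refine ⟨QT_torus_minus F 4 (by norm_num), ?_, ?_, ?_⟩
  · have h := QT_add (QT_torus_plus F 2 (by norm_num)) (QT_torus_minus F 2 (by norm_num))
    rw [← hq] at h ⊢
    have hc : Nat.Coprime (q ^ 2 - 1) (q ^ 2 + 1) :=
      real_cop (c := q ^ 2) dvd_rfl dvd_rfl (hev 2 (by norm_num)) (hpos 2)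
    rw [hc.lcm_eq_mul] at h
    have e : (q ^ 2 - 1) * (q ^ 2 + 1) = q ^ 4 - 1 := by
      obtain ⟨a, ha⟩ : ∃ a, q ^ 2 = a + 1 := ⟨q ^ 2 - 1, by have := hpos 2; omega⟩
      have h4 : q ^ 4 = (a + 1) * (a + 1) := by rw [← ha]; ring
      rw [h4, ha, Nat.add_sub_cancel]
      have : (a + 1) * (a + 1) = a * (a + 1 + 1) + 1 := by ring
      omega
    rwa [e] at h
  · have h := QT_add (QT_torus_plus F 3 (by norm_num)) (QT_torus_minus F 1 (by norm_num))
    rw [← hq] at h ⊢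
    have hc : Nat.Coprime (q ^ 3 - 1) (q ^ 1 + 1) := by
      refine real_cop (c := q ^ 3) dvd_rfl ?_ (hev 3 (by norm_num)) (hpos 3)
      have := Odd.nat_add_dvd_pow_add_pow q 1 (n := 3) (by decide)
      simpa using this
    rw [hc.lcm_eq_mul, pow_one] at h
    exact h
  · have h := QT_add (QT_torus_plus F 1 (by norm_num)) (QT_torus_minus F 3 (by norm_num))
    rw [← hq] at h ⊢
    have hc : Nat.Coprime (q ^ 1 - 1) (q ^ 3 + 1) := by
      refine real_cop (c := q ^ 3) ?_ dvd_rfl (hev 3 (by norm_num)) (hpos 3)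
      have := Nat.sub_dvd_pow_sub_pow q 1 3
      simpa using this
    rw [hc.lcm_eq_mul, pow_one, mul_comm] at h
    exact h

end Cfsg.Agent.Lib.Helper66.SP8
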