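import Mathlib
import Cfsg.Prelude.Def_Local
import Cfsg.Agent.Lib.Helper30.SZ
import Cfsg.Agent.Lib.Helper14.PSeries

set_option autoImplicit false
open Cfsg
open Cfsg.Agent.Lib.Helper30

namespace Cfsg.Agent.Lib.Helper66

set_option linter.style.haveILetI false

universe u

variable {G : Type*} [Group G]

/-- `H` is a `p`-complement of `G`. -/
def IsPC (p : ℕ) (H : Subgroup G) : Prop := (Nat.card H).Coprime p ∧ ∃ n : ℕ, H.index = p ^ n

theorem IsPC.cj {p : ℕ} {H : Subgroup G} (h : IsPC p H) (g : G) : IsPC p (cj g H) := by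
  refine ⟨by rw [card_cj]; exact h.1, ?_⟩
  obtain ⟨n, hn⟩ := h.2
  refine ⟨n, ?_⟩
  rw [← hn]
  exact Subgroup.index_map_equiv H (MulAut.conj g)

theorem IsPC.card_eq [Finite G] {p : ℕ} {H₁ H₂ : Subgroup G} (h₁ : IsPC p H₁) (h₂ : IsPC p H₂) :
    Nat.card H₁ = Nat.card H₂ := by
  obtain ⟨n₁, hn₁⟩ := h₁.2
  obtain ⟨n₂, hn₂⟩ := h₂.2
  have e₁ := H₁.card_mul_index
  have e₂ := H₂.card_mul_index
  rw [hn₁] at e₁
  rw [hn₂] at e₂
  apply Nat.dvd_antisymm
  · apply (Nat.Coprime.pow_right n₂ h₁.1).dvd_of_dvd_mul_right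
    rw [e₂, ← e₁]; exact dvd_mul_right _ _
  · apply (Nat.Coprime.pow_right n₁ h₂.1).dvd_of_dvd_mul_right
    rw [e₁, ← e₂]; exact dvd_mul_right _ _

theorem IsPC.map_mk [Finite G] {p : ℕ} [hp : Fact p.Prime] {H : Subgroup G} (h : IsPC p H) (N : Subgroup G) [N.Normal] :
    IsPC p (H.map (QuotientGroup.mk' N)) := by
  refine ⟨Nat.Coprime.coprime_dvd_left (Subgroup.card_map_dvd _ _) h.1, ?_⟩
  obtain ⟨n, hn⟩ := h.2
  have := Subgroup.index_map_dvd H (QuotientGroup.mk'_surjective N)
  rw [hn] at this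
  obtain ⟨k, -, hk⟩ := (Nat.dvd_prime_pow hp.out).1 this
  exact ⟨k, hk⟩

/-- a normal `p'`-subgroup lies in every `p`-complement -/
theorem IsPC.le_of_normal_coprime [Finite G] {p : ℕ} [hp : Fact p.Prime] {H : Subgroup G} (h : IsPC p H)
    (N : Subgroup G) [N.Normal] (hN : (Nat.card N).Coprime p) : N ≤ H := by
  have h1 : H.relIndex (H ⊔ N) ∣ H.index := Subgroup.relIndex_dvd_index_of_le le_sup_left
  obtain ⟨n, hn⟩ := h.2
  rw [hn] at h1
  obtain ⟨k, -, hk⟩ := (Nat.dvd_prime_pow hp.out).1 h1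
  have h2 : Nat.card (H ⊔ N : Subgroup G) ∣ Nat.card H * Nat.card N :=
    Cfsg.Agent.Lib.Helper14.card_sup_dvd_of_normal H N
  have h3 : (Nat.card (H ⊔ N : Subgroup G)).Coprime p :=
    Nat.Coprime.coprime_dvd_left h2 (Nat.Coprime.mul_left h.1 hN)
  have h4 : H.relIndex (H ⊔ N) ∣ Nat.card (H ⊔ N : Subgroup G) := Subgroup.relIndex_dvd_card _ _
  have h5 : (p ^ k).Coprime p := by
    rw [← hk]; exact Nat.Coprime.coprime_dvd_left h4 h3
  have hk0 : k = 0 := by
    by_contra hne
    have : p ∣ p ^ k := dvd_pow_self p hne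
    have h6 := Nat.Coprime.eq_one_of_dvd h5.symm this
    exact hp.out.one_lt.ne' h6
  rw [hk0, pow_zero, Subgroup.relIndex_eq_one] at hk
  exact le_sup_right.trans hk

theorem le_cj_sup_of_map_le (N : Subgroup G) [N.Normal] (U H : Subgroup G) (g : G)
    (h : U.map (QuotientGroup.mk' N) ≤ cj (QuotientGroup.mk' N g) (H.map (QuotientGroup.mk' N))) :
    U ≤ cj g (H ⊔ N) := by
  intro u hu
  have h1 : QuotientGroup.mk' N u ∈ cj (QuotientGroup.mk' N g) (H.map (QuotientGroup.mk' N)) :=
    h ⟨u, hu, rfl⟩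
  rw [mem_cj] at h1 ⊢
  obtain ⟨x, hx, hxe⟩ := h1
  have h2 : QuotientGroup.mk' N (x⁻¹ * (g⁻¹ * u * g)) = 1 := by
    simp only [map_mul, map_inv, hxe]
    group
  have h3 : x⁻¹ * (g⁻¹ * u * g) ∈ N := by
    rw [← QuotientGroup.ker_mk' N]; exact h2
  have : g⁻¹ * u * g = x * (x⁻¹ * (g⁻¹ * u * g)) := by group
  rw [this]
  exact Subgroup.mul_mem _ (Subgroup.mem_sup_left hx) (Subgroup.mem_sup_right h3)

/-- first non-trivial term of a `p`-series -/
theorem exists_normal_of_isPSolvable [Finite G] [Nontrivial G] {p : ℕ} [hp : Fact p.Prime] (hG : IsPSolvable p G) :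
    ∃ N : Subgroup G, N.Normal ∧ N ≠ ⊥ ∧ (IsPGroup p N ∨ (Nat.card N).Coprime p) := by
  obtain ⟨n, H, h0, hlast, hmono, hnorm, hfac⟩ := hG
  have key : ∀ k : Fin (n + 1), H k ≠ ⊥ →
      ∃ N : Subgroup G, N.Normal ∧ N ≠ ⊥ ∧ (IsPGroup p N ∨ (Nat.card N).Coprime p) := by
    intro k
    induction k using Fin.induction with
    | zero => intro h; exact absurd h0 h
    | succ j ih =>
      intro h
      by_cases hj : H j.castSucc = ⊥
      · refine ⟨H j.succ, hnorm _, h, ?_⟩
        have := hfac j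
        rw [hj, Subgroup.relIndex_bot_left] at this
        rcases this with ⟨m, hm⟩ | hc
        · left; exact IsPGroup.iff_card.2 ⟨m, hm⟩
        · right; exact hc
      · exact ih hj
  apply key (Fin.last n)
  rw [hlast]
  exact top_ne_bot

theorem inf_eq_bot_of_pgroup_coprime [Finite G] {p : ℕ} [hp : Fact p.Prime] {N U : Subgroup G}
    (hN : IsPGroup p N) (hU : (Nat.card U).Coprime p) : N ⊓ U = ⊥ := by
  obtain ⟨k, hk⟩ := IsPGroup.iff_card.1 hN
  apply disjoint_iff.1
  apply Subgroup.disjoint_of_coprime_natCard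
  rw [hk]
  exact (Nat.Coprime.pow_right k hU).symm

/-- key step: `N` normal `p`-subgroup, `H` of `p'`-order, `U ≤ N H` of `p'`-order: `U` is contained in
an `N`-conjugate of `H`. -/
theorem le_cj_of_le_sup [Finite G] {p : ℕ} [hp : Fact p.Prime] (N : Subgroup G) [N.Normal] (hN : IsPGroup p N)
    (H U : Subgroup G) (hH : (Nat.card H).Coprime p) (hU : (Nat.card U).Coprime p) (hUH : U ≤ H ⊔ N) :
    ∃ x ∈ N, U ≤ cj x H := by
  set H₀ : Subgroup G := (N ⊔ U) ⊓ H with hH₀
  have hH₀c : (Nat.card H₀).Coprime p :=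
    Nat.Coprime.coprime_dvd_left (Subgroup.card_dvd_of_le inf_le_right) hH
  have h1 : U ≤ N ⊔ H₀ := by
    intro u hu
    have h2 := hUH hu
    rw [sup_comm, mem_sup_normal_left] at h2
    obtain ⟨n, hn, h, hh, rfl⟩ := h2
    apply Subgroup.mul_mem _ (Subgroup.mem_sup_left hn)
    apply Subgroup.mem_sup_right
    refine ⟨?_, hh⟩
    have : h = n⁻¹ * (n * h) := by group
    rw [this]
    exact Subgroup.mul_mem _ (Subgroup.mem_sup_left (N.inv_mem hn)) (Subgroup.mem_sup_right hu)
  have h2 : N ⊔ U = N ⊔ H₀ := le_antisymm (sup_le le_sup_left h1) (sup_le le_sup_left inf_le_left)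
  have h3 : Nat.card U = Nat.card H₀ := by
    have e1 := card_sup_eq_mul N U (inf_eq_bot_of_pgroup_coprime hN hU)
    have e2 := card_sup_eq_mul N H₀ (inf_eq_bot_of_pgroup_coprime hN hH₀c)
    rw [h2, e2] at e1
    exact (Nat.eq_of_mul_eq_mul_left Nat.card_pos e1).symm
  have hNsol : Group.IsSolvable N := by
    haveI := hN.isNilpotent
    infer_instance
  have hcop : (Nat.card N).Coprime (Nat.card H₀) := by
    obtain ⟨k, hk⟩ := IsPGroup.iff_card.1 hN
    rw [hk]
    exact (Nat.Coprime.pow_right k hH₀c).symm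
  obtain ⟨x, hx, hxU⟩ := sz_conj N H₀ U Subgroup.le_normalizer_of_normal (Or.inl hNsol) hcop h1 h3
  exact ⟨x, hx, by rw [hxU]; exact cj_mono x inf_le_right⟩

theorem exists_isPC_aux (p : ℕ) [hp : Fact p.Prime] (n : ℕ) : ∀ (G : Type u) [Group G] [Finite G], Nat.card G = n →
    IsPSolvable p G → ∃ H : Subgroup G, IsPC p H := by
  induction n using Nat.strong_induction_on with
  | _ n ih =>
    intro G _ _ hn hG
    rcases subsingleton_or_nontrivial G with hs | hnt
    · refine ⟨⊤, ?_, 0, ?_⟩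
      · simp
      · simp
    · obtain ⟨N, hNn, hNne, hN⟩ := exists_normal_of_isPSolvable hG
      haveI := hNn
      have hlt : Nat.card (G ⧸ N) < n := by
        rw [← hn, ← N.card_mul_index]
        have h1 : 1 < Nat.card N := by
          rw [Finite.one_lt_card_iff_nontrivial]
          exact (Subgroup.nontrivial_iff_ne_bot N).2 hNne
        have h2 : 0 < N.index := Nat.pos_of_ne_zero Subgroup.index_ne_zero_of_finite
        show N.index < _
        nlinarith
      obtain ⟨Hbar, hHbar⟩ := ih _ hlt (G ⧸ N) rfl (Cfsg.Agent.Lib.Helper14.IsPSolvable.quotient hG N)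
      set K : Subgroup G := Hbar.comap (QuotientGroup.mk' N) with hK
      have hNK : N ≤ K := Cfsg.Agent.Lib.Helper14.le_comap_mk' N _
      have hKidx : K.index = Hbar.index := Subgroup.index_comap_of_surjective _ (QuotientGroup.mk'_surjective N)
      have hrel : N.relIndex K = Nat.card Hbar := Cfsg.Agent.Lib.Helper14.relIndex_comap_mk' N _
      have hKcard : Nat.card K = Nat.card N * Nat.card Hbar := by
        rw [← hrel]; exact card_eq_card_mul_relIndex hNK
      obtain ⟨m, hm⟩ := hHbar.2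
      rcases hN with hNp | hNc
      · -- N a p-group: Schur-Zassenhaus in K
        obtain ⟨k, hk⟩ := IsPGroup.iff_card.1 hNp
        have hcop : (Nat.card (N.subgroupOf K)).Coprime (N.subgroupOf K).index := by
          rw [card_subgroupOf hNK, hk]
          show (p ^ k).Coprime (N.relIndex K)
          rw [hrel]
          exact (Nat.Coprime.pow_right k hHbar.1).symm
        obtain ⟨H, hH⟩ := Subgroup.exists_right_complement'_of_coprime hcop
        have hHcard : Nat.card H = Nat.card Hbar := by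
          have h1 := hH.card_mul_card
          rw [card_subgroupOf hNK, hKcard] at h1
          exact Nat.eq_of_mul_eq_mul_left Nat.card_pos h1
        refine ⟨H.map K.subtype, ?_, m + k, ?_⟩
        · rw [Subgroup.card_map_of_injective K.subtype_injective, hHcard]; exact hHbar.1
        · have h1 := (H.map K.subtype).card_mul_index
          rw [Subgroup.card_map_of_injective K.subtype_injective, hHcard, ← K.card_mul_index, hKcard, hKidx, hm, hk] at h1
          have h2 : Nat.card Hbar * (H.map K.subtype).index = Nat.card Hbar * (p ^ (m + k)) := by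
            rw [h1]; ring
          exact Nat.eq_of_mul_eq_mul_left Nat.card_pos h2
      · exact ⟨K, by rw [hKcard]; exact Nat.Coprime.mul_left hNc hHbar.1, m, by rw [hKidx, hm]⟩

theorem exists_isPC {G : Type u} [Group G] [Finite G] {p : ℕ} [hp : Fact p.Prime] (hG : IsPSolvable p G) :
    ∃ H : Subgroup G, IsPC p H := exists_isPC_aux p _ G rfl hG

theorem le_cj_isPC_aux (p : ℕ) [hp : Fact p.Prime] (n : ℕ) : ∀ (G : Type u) [Group G] [Finite G], Nat.card G = n →
    IsPSolvable p G → ∀ H U : Subgroup G, IsPC p H → (Nat.card U).Coprime p → ∃ g : G, U ≤ cj g H := by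
  induction n using Nat.strong_induction_on with
  | _ n ih =>
    intro G _ _ hn hG H U hH hU
    rcases subsingleton_or_nontrivial G with hs | hnt
    · refine ⟨1, ?_⟩
      intro u _
      rw [Subsingleton.elim u 1]; exact Subgroup.one_mem _
    · obtain ⟨N, hNn, hNne, hN⟩ := exists_normal_of_isPSolvable hG
      haveI := hNn
      have hlt : Nat.card (G ⧸ N) < n := by
        rw [← hn, ← N.card_mul_index]
        have h1 : 1 < Nat.card N := by
          rw [Finite.one_lt_card_iff_nontrivial]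
          exact (Subgroup.nontrivial_iff_ne_bot N).2 hNne
        have h2 : 0 < N.index := Nat.pos_of_ne_zero Subgroup.index_ne_zero_of_finite
        show N.index < _
        nlinarith
      obtain ⟨gbar, hg⟩ := ih _ hlt (G ⧸ N) rfl (Cfsg.Agent.Lib.Helper14.IsPSolvable.quotient hG N)
        (H.map (QuotientGroup.mk' N)) (U.map (QuotientGroup.mk' N)) (hH.map_mk N)
        (Nat.Coprime.coprime_dvd_left (Subgroup.card_map_dvd _ _) hU)
      obtain ⟨g, rfl⟩ := QuotientGroup.mk'_surjective N gbar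
      have h1 := le_cj_sup_of_map_le N U H g hg
      rcases hN with hNp | hNc
      · rw [cj_sup, cj_normal g N] at h1
        obtain ⟨x, -, hx⟩ := le_cj_of_le_sup N hNp (cj g H) U (hH.cj g).1 hU h1
        exact ⟨x * g, by rw [cj_mul]; exact hx⟩
      · rw [sup_of_le_left (hH.le_of_normal_coprime N hNc)] at h1
        exact ⟨g, h1⟩

/-- In a `p`-soluble group every `p'`-subgroup lies in a conjugate of any given `p`-complement. -/
theorem le_cj_isPC {G : Type u} [Group G] [Finite G] {p : ℕ} [hp : Fact p.Prime] (hG : IsPSolvable p G)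
    {H U : Subgroup G} (hH : IsPC p H) (hU : (Nat.card U).Coprime p) : ∃ g : G, U ≤ cj g H :=
  le_cj_isPC_aux p _ G rfl hG H U hH hU

/-- `p`-complements of a `p`-soluble group are conjugate. -/
theorem isPC_conj {G : Type u} [Group G] [Finite G] {p : ℕ} [hp : Fact p.Prime] (hG : IsPSolvable p G)
    {H₁ H₂ : Subgroup G} (h₁ : IsPC p H₁) (h₂ : IsPC p H₂) : ∃ g : G, H₂ = cj g H₁ := by
  obtain ⟨g, hg⟩ := le_cj_isPC hG h₁ h₂.1
  refine ⟨g, ?_⟩
  apply Subgroup.eq_of_le_of_card_ge hg
  rw [(h₁.cj g).card_eq h₂]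

end Cfsg.Agent.Lib.Helper66
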