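import Mathlib
import Cfsg.Agent.Lib.Helper99.PGB.Defs
import Cfsg.Agent.Lib.Helper48.SpSpec
import Cfsg.Agent.Lib.Helper48.SpProj
import Cfsg.Agent.S0245

set_option autoImplicit false
set_option linter.unusedSectionVars false
set_option linter.unusedVariables false
set_option linter.style.haveILetI false

universe u

namespace Cfsg.Agent.Lib.Helper66.PSA

open Module LinearMap Cfsg.Agent.Lib.Helper48 Cfsg.Agent.Lib.Helper17 Cfsg.Agent.Lib.Helper99.PGB

theorem ar_isoB_pow {F V : Type*} [Field F] [AddCommGroup V] [Module F V]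
    {B : LinearMap.BilinForm F V} {f : End F V} (hf : IsoB B f) (k : ℕ) : IsoB B (f ^ k) := by
  induction k with
  | zero => intro x w; simp
  | succ k ih =>
    intro x w
    rw [pow_succ, Module.End.mul_apply, Module.End.mul_apply, ih, hf]

/-- ARDVD -/
theorem AR_of_dvd {F : Type u} [Field F] {d K K' : ℕ} (h : AR F d K) (hK : 0 < K) (hd : K' ∣ K) :
    AR F d K' := by
  obtain ⟨V, _, _, _, S, T, hdim, halt, hnd, hT, ho⟩ := h
  obtain ⟨m, rfl⟩ := hd
  have hm : 0 < m := Nat.pos_of_ne_zero (by rintro rfl; simp at hK)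
  refine ⟨V, inferInstance, inferInstance, inferInstance, S, T ^ m, hdim, halt, hnd,
    ar_isoB_pow hT m, fun j => ?_⟩
  rw [← pow_mul, ho, mul_comm K' m, Nat.mul_dvd_mul_iff_left hm]

/-- ARSP -/
theorem AR_of_sp {F : Type u} [Field F] [Fintype F] {n : ℕ} (A : Matrix.symplecticGroup (Fin n) F) :
    AR F (2 * n) (orderOf A) := by
  refine ⟨Fin n ⊕ Fin n → F, inferInstance, inferInstance, inferInstance, sympB n F,
    Matrix.mulVecLin (A : Matrix (Fin n ⊕ Fin n) (Fin n ⊕ Fin n) F), finrank_symp_space n,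
    sympB_isAlt n, (sympB_nondegenerate n).1, isoB_mulVecLin A, fun j => ?_⟩
  rw [orderOf_dvd_iff_pow_eq_one, (sp_pow_iff A j).1]

/-- ARPR -/
theorem AR_prime {F : Type u} [Field F] [Fintype F] {e r : ℕ} (he : 1 ≤ e) (hr : r.Prime)
    (h : r ∣ Fintype.card F ^ (2 * e) - 1) : AR F (2 * e) r := by
  haveI : Fact r.Prime := ⟨hr⟩
  have hc1 : r ∣ Nat.card (Matrix.symplecticGroup (Fin e) F) := by
    rw [Cfsg.Agent.S0245.result rfl e]
    apply Dvd.dvd.mul_left
    apply h.trans
    have : 2 * e = 2 * ((e - 1) + 1) := by omega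
    rw [this]
    exact Finset.dvd_prod_of_mem (fun i => Fintype.card F ^ (2 * (i + 1)) - 1)
      (Finset.mem_range.2 (by omega))
  obtain ⟨A, hA⟩ := exists_prime_orderOf_dvd_card' r hc1
  have := AR_of_sp A
  rwa [hA] at this

end Cfsg.Agent.Lib.Helper66.PSA
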