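import Mathlib
import Cfsg.Agent.Lib.Helper99.SP8.Defs
import Cfsg.Agent.Lib.Helper99.PGB.Defs
import Cfsg.Agent.Lib.Helper48.SpTori
import Cfsg.Agent.Lib.Helper66.SP8TORM

set_option autoImplicit false
set_option linter.unusedSectionVars false
set_option linter.unusedVariables false
set_option linter.style.haveILetI false

universe u

namespace Cfsg.Agent.Lib.Helper66.PSA

open Module LinearMap QuadraticMap Cfsg.Agent.Lib.Helper48 Cfsg.Agent.Lib.Helper99.SP8
  Cfsg.Agent.Lib.Helper99.PGB

/-- ARTP -/
theorem AR_torus_plus (F : Type u) [Field F] [Fintype F] (e : ℕ) (he : 1 ≤ e) :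
    AR F (2 * e) (Fintype.card F ^ e + 1) := by
  classical
  by_cases h2 : (2 : F) = 0
  · haveI : CharP F 2 := CharTwo.of_one_ne_zero_of_two_eq_zero one_ne_zero h2
    obtain ⟨V, _, _, _, Q, T, ⟨hdim, hnd, -⟩, hi, ho⟩ :=
      Cfsg.Agent.Lib.Helper66.SP8.QT_torus_minus F e he
    refine ⟨V, inferInstance, inferInstance, inferInstance, Q.polarBilin, T, hdim, ?_, ?_, ?_, ho⟩
    · intro x
      rw [QuadraticMap.polarBilin_apply_apply, QuadraticMap.polar_self, nsmul_eq_mul]
      rw [Nat.cast_ofNat, h2, zero_mul]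
    · intro x hx
      exact hnd x (fun y => by rw [← QuadraticMap.polarBilin_apply_apply]; exact hx y)
    · intro x w
      rw [QuadraticMap.polarBilin_apply_apply, QuadraticMap.polarBilin_apply_apply]
      simp only [QuadraticMap.polar, ← map_add, hi]
  · obtain ⟨p, hp⟩ := CharP.exists F
    haveI : Fact p.Prime := ⟨CharP.char_is_prime F p⟩
    haveI : NeZero (2 * e) := ⟨by omega⟩
    have hK : finrank F (ULift.{u} (FiniteField.Extension F p (2 * e))) = 2 * e := by
      rw [(ULift.moduleEquiv (R := F) (M := FiniteField.Extension F p (2 * e))).finrank_eq]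
      exact FiniteField.finrank_extension F p (2 * e)
    obtain ⟨B, T, hA, hnd, hT, hord⟩ :=
      exists_isoB_plus h2 (ULift.{u} (FiniteField.Extension F p (2 * e))) e he hK
    haveI : FiniteDimensional F (ULift.{u} (FiniteField.Extension F p (2 * e))) :=
      Module.Finite.of_finite
    exact ⟨_, inferInstance, inferInstance, inferInstance, B, T, hK, hA, hnd, hT, hord⟩

end Cfsg.Agent.Lib.Helper66.PSA
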