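import Mathlib
import Cfsg.Agent.Lib.Helper99.PGB.Defs
import Cfsg.Agent.Lib.Helper48.SpTori
import Cfsg.Agent.Lib.Helper66.PSAAR
import Cfsg.Agent.Lib.Helper66.PSAARTP
import Cfsg.Agent.Lib.Helper11.PGBADD
import Cfsg.Agent.Lib.Helper11.PGBONE

set_option autoImplicit false
set_option linter.unusedSectionVars false
set_option linter.unusedVariables false
set_option linter.style.haveILetI false

universe u

namespace Cfsg.Agent.Lib.Helper66.PSA

open Module LinearMap Cfsg.Agent.Lib.Helper48 Cfsg.Agent.Lib.Helper99.PGB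

/-- padding by a trivial summand -/
theorem AR_pad {F : Type u} [Field F] {e n K : ℕ} (h : AR F (2 * e) K) (hen : e ≤ n) :
    AR F (2 * n) K := by
  have := Cfsg.Agent.Lib.Helper11.PGB.AR_add h (Cfsg.Agent.Lib.Helper11.PGB.AR_one F (n - e))
  rw [Nat.lcm_one_right] at this
  have h2 : 2 * e + 2 * (n - e) = 2 * n := by omega
  rwa [h2] at this

/-- if `k = 2 η` is the order of `q` mod the prime `r`, then `r ∣ q ^ η + 1` -/
theorem bwd_dvd_plus {q r k η : ℕ} (hq : 1 ≤ q) (hr : r.Prime) (hk0 : 0 < k)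
    (hk : ∀ j, r ∣ q ^ j - 1 ↔ k ∣ j) (h2 : 2 * η = k) : r ∣ q ^ η + 1 := by
  have h1 : r ∣ q ^ k - 1 := (hk k).2 dvd_rfl
  have hfac : q ^ k - 1 = (q ^ η - 1) * (q ^ η + 1) := by
    have h1' : 1 ≤ q ^ η := Nat.one_le_pow _ _ hq
    obtain ⟨a, ha⟩ : ∃ a, q ^ η = a + 1 := ⟨q ^ η - 1, by omega⟩
    rw [← h2, mul_comm 2 η, pow_mul, ha]
    have : (a + 1) ^ 2 = a * (a + 1 + 1) + 1 := by ring
    rw [this]
    simp
  rw [hfac] at h1
  rcases hr.dvd_mul.1 h1 with h | h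
  · exfalso
    have := Nat.le_of_dvd (by omega) ((hk η).1 h)
    omega
  · exact h

/-- BWD -/
theorem bwd {F : Type u} [Field F] [Fintype F] {n r s : ℕ} (hr : r.Prime) (hs : s.Prime)
    (hr2 : r ≠ 2) (hs2 : s ≠ 2) (hrs : r ≠ s) (k l ηk ηl : ℕ) (hk0 : 0 < k) (hl0 : 0 < l)
    (hk : ∀ j, r ∣ Fintype.card F ^ j - 1 ↔ k ∣ j) (hl : ∀ j, s ∣ Fintype.card F ^ j - 1 ↔ l ∣ j)
    (hηk : (Odd k ∧ ηk = k) ∨ (Even k ∧ 2 * ηk = k))
    (hηl : (Odd l ∧ ηl = l) ∨ (Even l ∧ 2 * ηl = l)) (hln : ηl ≤ n)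
    (h : ηk + ηl ≤ n ∨ ∃ t, Odd t ∧ l = k * t) : AR F (2 * n) (r * s) := by
  have hcop : Nat.Coprime r s := (Nat.coprime_primes hr hs).2 hrs
  have hq1 : 1 ≤ Fintype.card F := Fintype.card_pos
  have hq2 : 2 ≤ Fintype.card F := Fintype.one_lt_card
  have hηk0 : 1 ≤ ηk := by rcases hηk with ⟨-, h⟩ | ⟨-, h⟩ <;> omega
  have hηl0 : 1 ≤ ηl := by rcases hηl with ⟨-, h⟩ | ⟨-, h⟩ <;> omega
  rcases h with h | ⟨t, ht, hlt⟩
  · have h1 : AR F (2 * ηk) r := AR_prime hηk0 hr ((hk _).2 (by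
      rcases hηk with ⟨-, h⟩ | ⟨-, h⟩
      · rw [h]; exact Dvd.intro_left 2 rfl
      · rw [h]))
    have h2 : AR F (2 * ηl) s := AR_prime hηl0 hs ((hl _).2 (by
      rcases hηl with ⟨-, h⟩ | ⟨-, h⟩
      · rw [h]; exact Dvd.intro_left 2 rfl
      · rw [h]))
    have h3 := Cfsg.Agent.Lib.Helper11.PGB.AR_add h1 h2
    rw [hcop.lcm_eq_mul, ← mul_add] at h3
    exact AR_pad h3 h
  · rcases hηk with ⟨hko, hkη⟩ | ⟨hke, hkη⟩
    · -- `k` odd, so `l` odd
      have hlo : Odd l := by rw [hlt]; exact hko.mul ht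
      have hlη : ηl = l := by
        rcases hηl with ⟨-, h⟩ | ⟨h, -⟩
        · exact h
        · exact absurd hlo (Nat.not_odd_iff_even.2 h)
      obtain ⟨A, hA⟩ := exists_sp_orderOf_minus (F := F) ηl hηl0
      have h1 := AR_of_sp A
      rw [hA] at h1
      have hpos : 0 < Fintype.card F ^ ηl - 1 := by
        have : 2 ^ 1 ≤ Fintype.card F ^ ηl :=
          (Nat.pow_le_pow_left hq2 1).trans (Nat.pow_le_pow_right hq1 hηl0)
        omega
      have hd : r * s ∣ Fintype.card F ^ ηl - 1 :=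
        hcop.mul_dvd_of_dvd_of_dvd ((hk _).2 (by rw [hlη, hlt]; exact Dvd.intro t rfl))
          ((hl _).2 (by rw [hlη]))
      exact AR_pad (AR_of_dvd h1 hpos hd) hln
    · -- `k` even, so `l` even
      have hle : Even l := by rw [hlt]; exact hke.mul_right t
      have hlη : 2 * ηl = l := by
        rcases hηl with ⟨h, -⟩ | ⟨-, h⟩
        · exact absurd hle (Nat.not_even_iff_odd.2 h)
        · exact h
      have hηη : ηl = ηk * t := by
        have : 2 * ηl = 2 * (ηk * t) := by rw [hlη, hlt, ← hkη, mul_assoc]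
        omega
      have hr1 : r ∣ Fintype.card F ^ ηk + 1 := bwd_dvd_plus hq1 hr hk0 hk hkη
      have hs1 : s ∣ Fintype.card F ^ ηl + 1 := bwd_dvd_plus hq1 hs hl0 hl hlη
      have hr2' : r ∣ Fintype.card F ^ ηl + 1 := by
        apply hr1.trans
        have := Odd.nat_add_dvd_pow_add_pow (Fintype.card F ^ ηk) 1 ht
        rwa [one_pow, ← pow_mul, ← hηη] at this
      exact AR_pad (AR_of_dvd (AR_torus_plus F ηl hηl0) (Nat.succ_pos _)
        (hcop.mul_dvd_of_dvd_of_dvd hr2' hs1)) hln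

end Cfsg.Agent.Lib.Helper66.PSA
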