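import Mathlib

set_option autoImplicit false
set_option linter.unusedSectionVars false
set_option linter.unusedVariables false

namespace Cfsg.Agent.Lib.Helper66.PSA

/-- NUMB -/
theorem num_b {k l ηl d : ℕ} (hηl : (Odd l ∧ ηl = l) ∨ (Even l ∧ 2 * ηl = l)) (hd : 0 < d)
    (hk : k ∣ d) (hl : l ∣ d) (hlt : d < 2 * ηl) : ∃ t, Odd t ∧ l = k * t := by
  have hle : l ≤ d := Nat.le_of_dvd hd hl
  rcases hηl with ⟨hodd, rfl⟩ | ⟨-, h2⟩
  · obtain ⟨a, rfl⟩ := hl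
    have ha : a = 1 := by
      have hl0 : 0 < ηl := Nat.pos_of_ne_zero (by rintro rfl; simp at hd)
      have h1 : a < 2 := by
        by_contra hcon
        push Not at hcon
        have : ηl * 2 ≤ ηl * a := Nat.mul_le_mul_left _ hcon
        omega
      have h2 : a ≠ 0 := by rintro rfl; simp at hd
      omega
    rw [ha, mul_one] at hk
    obtain ⟨t, rfl⟩ := hk
    exact ⟨t, (Nat.odd_mul.1 hodd).2, rfl⟩
  · omega

theorem num_c_aux {k ηk e : ℕ} (hηk : (Odd k ∧ ηk = k) ∨ (Even k ∧ 2 * ηk = k)) (hk : k ∣ 2 * e)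
    (hk' : ¬ k ∣ e) : 2 * ηk = k ∧ ∃ a, Odd a ∧ e = ηk * a := by
  rcases hηk with ⟨hodd, -⟩ | ⟨-, h2⟩
  · exfalso
    apply hk'
    exact (Nat.Coprime.dvd_of_dvd_mul_left (Nat.coprime_two_right.2 hodd) hk)
  · refine ⟨h2, ?_⟩
    rw [← h2] at hk
    have h3 : ηk ∣ e := Nat.dvd_of_mul_dvd_mul_left (by norm_num) hk
    obtain ⟨a, rfl⟩ := h3
    refine ⟨a, ?_, rfl⟩
    by_contra hcon
    rw [Nat.not_odd_iff_even] at hcon
    obtain ⟨b, rfl⟩ := hcon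
    apply hk'
    rw [← h2]
    exact ⟨b, by ring⟩

/-- NUMC -/
theorem num_c {k l ηk ηl e : ℕ} (hηk : (Odd k ∧ ηk = k) ∨ (Even k ∧ 2 * ηk = k))
    (hηl : (Odd l ∧ ηl = l) ∨ (Even l ∧ 2 * ηl = l)) (he : 0 < e) (hk : k ∣ 2 * e)
    (hk' : ¬ k ∣ e) (hl : l ∣ 2 * e) (hl' : ¬ l ∣ e) (hlt : e < 2 * ηl) :
    ∃ t, Odd t ∧ l = k * t := by
  obtain ⟨h2k, a, ha, hea⟩ := num_c_aux hηk hk hk'
  obtain ⟨h2l, b, hb, heb⟩ := num_c_aux hηl hl hl'
  have hb1 : b = 1 := by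
    have h1 : b < 2 := by
      by_contra hcon
      push Not at hcon
      have : ηl * 2 ≤ ηl * b := Nat.mul_le_mul_left _ hcon
      omega
    have h2 : b ≠ 0 := by rintro rfl; simp at heb; omega
    omega
  rw [hb1, mul_one] at heb
  refine ⟨a, ha, ?_⟩
  rw [← h2l, ← heb, hea, ← h2k]; ring

end Cfsg.Agent.Lib.Helper66.PSA
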