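import Mathlib
import Cfsg.Agent.Lib.Helper67.SP8SPLIT
import Cfsg.Agent.Lib.Helper66.PSANUM
import Cfsg.Agent.Lib.Helper66.PSAMIN

set_option autoImplicit false
set_option linter.unusedSectionVars false
set_option linter.unusedVariables false
set_option linter.style.haveILetI false

universe u

namespace Cfsg.Agent.Lib.Helper66.PSA

open Module LinearMap Cfsg.Agent.Lib.Helper48 Cfsg.Agent.Lib.Helper67.SP8

theorem core_arith {r Q : ℕ} (hr : r.Prime) (hr2 : r ≠ 2) (hQ : 1 ≤ Q) (h1 : r ∣ Q + 1) :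
    r ∣ Q ^ 2 - 1 ∧ ¬ r ∣ Q - 1 := by
  constructor
  · have : Q ^ 2 - 1 = (Q + 1) * (Q - 1) := by
      have := Nat.sq_sub_sq Q 1
      simpa using this
    rw [this]
    exact Dvd.dvd.mul_right h1 _
  · intro h2
    have h3 : r ∣ 2 := by
      have := Nat.dvd_sub h1 h2
      have e : Q + 1 - (Q - 1) = 2 := by omega
      rwa [e] at this
    exact hr2 ((Nat.prime_dvd_prime_iff_eq hr Nat.prime_two).1 h3)

/-- CORE -/
theorem core {F : Type u} [Field F] [Fintype F] {V : Type u} [AddCommGroup V] [Module F V]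
    [FiniteDimensional F V] [Nontrivial V] (B : LinearMap.BilinForm F V) (halt : ∀ v, B v v = 0)
    (hnd : ∀ x, (∀ y, B x y = 0) → x = 0) {n : ℕ} (hdim : finrank F V ≤ 2 * n)
    (T : End F V) (hT : IsoB B T) {r s : ℕ} (hr : r.Prime) (hs : s.Prime) (hr2 : r ≠ 2)
    (hs2 : s ≠ 2) (hTrs : T ^ (r * s) = 1) (hx : ∀ v, (T ^ s) v = v → v = 0)
    (hz : ∀ v, (T ^ r) v = v → v = 0) (k l ηk ηl : ℕ)
    (hk : ∀ j, r ∣ Fintype.card F ^ j - 1 ↔ k ∣ j) (hl : ∀ j, s ∣ Fintype.card F ^ j - 1 ↔ l ∣ j)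
    (hηk : (Odd k ∧ ηk = k) ∨ (Even k ∧ 2 * ηk = k))
    (hηl : (Odd l ∧ ηl = l) ∨ (Even l ∧ 2 * ηl = l)) (hkl : ηk ≤ ηl) (hlt : n < ηk + ηl) :
    ∃ t, Odd t ∧ l = k * t := by
  classical
  have hrs0 : r * s ≠ 0 := Nat.mul_ne_zero hr.ne_zero hs.ne_zero
  obtain ⟨k', hk'⟩ : ∃ k', r * s = k' + 1 := Nat.exists_eq_succ_of_ne_zero hrs0
  obtain ⟨T', hT'⟩ : ∃ T' : End F V, T' = T ^ k' := ⟨_, rfl⟩
  have hTT' : T * T' = 1 := by rw [hT', ← pow_succ', ← hk', hTrs]
  have a1 : ∀ y, T (T' y) = y := fun y => by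
    have := congrArg (fun g : End F V => g y) hTT'
    simpa using this
  obtain ⟨U, hU0, hUinv, hUmin⟩ := exists_min_inv T
  have hU'T : ∀ w ∈ U, T' w ∈ U := hT' ▸ masch_pow_mem T U hUinv k'
  have hPinv : ∀ w ∈ B.orthogonal U, T w ∈ B.orthogonal U := by
    intro w hw
    rw [alt_mem_orth] at hw ⊢
    intro n hn
    rw [← a1 n, hT]
    exact hw _ (hU'T n hn)
  have hpow := split_restrict_pow_eq_one_iff T U hUinv
  obtain ⟨u0, hu0U, hu00⟩ := Submodule.exists_mem_ne_zero_of_ne_bot hU0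
  have hUpos : 1 ≤ finrank F U := Submodule.one_le_finrank_iff.mpr hU0
  have hpowU : (T.restrict hUinv : End F U) ^ (r * s) = 1 := by
    rw [hpow, hTrs]; intro w _; rfl
  have hkU : k ∣ finrank F U := by
    rw [← hk]
    apply dvd_of_fpf ((T.restrict hUinv : End F U) ^ s) hr
    · rw [← pow_mul, mul_comm s r, hpowU]
    · intro v hv
      have h1 : (T ^ s) (v : V) = v := by
        rw [← split_restrict_pow_apply T U hUinv s v, hv]
      exact Subtype.ext (hx _ h1)
  have hlU : l ∣ finrank F U := by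
    rw [← hl]
    apply dvd_of_fpf ((T.restrict hUinv : End F U) ^ r) hs
    · rw [← pow_mul, hpowU]
    · intro v hv
      have h1 : (T ^ r) (v : V) = v := by
        rw [← split_restrict_pow_apply T U hUinv r v, hv]
      exact Subtype.ext (hz _ h1)
  have hdiv : ∀ j, (T.restrict hUinv : End F U) ^ j = 1 → r ∣ j ∧ s ∣ j := by
    intro j hj
    have ho1 : orderOf (T.restrict hUinv : End F U) ∣ j := orderOf_dvd_of_pow_eq_one hj
    have ho2 : orderOf (T.restrict hUinv : End F U) ∣ r * s := orderOf_dvd_of_pow_eq_one hpowU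
    constructor
    · by_contra hrj
      have h1 : ¬ r ∣ orderOf (T.restrict hUinv : End F U) := fun h => hrj (h.trans ho1)
      have h2 : Nat.Coprime (orderOf (T.restrict hUinv : End F U)) r :=
        ((Nat.Prime.coprime_iff_not_dvd hr).2 h1).symm
      have h3 := Nat.Coprime.dvd_of_dvd_mul_left h2 ho2
      have h4 := orderOf_dvd_iff_pow_eq_one.1 h3
      exact hu00 (hx u0 ((hpow s).1 h4 u0 hu0U))
    · by_contra hsj
      have h1 : ¬ s ∣ orderOf (T.restrict hUinv : End F U) := fun h => hsj (h.trans ho1)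
      have h2 : Nat.Coprime (orderOf (T.restrict hUinv : End F U)) s :=
        ((Nat.Prime.coprime_iff_not_dvd hs).2 h1).symm
      have h3 := Nat.Coprime.dvd_of_dvd_mul_right h2 ho2
      have h4 := orderOf_dvd_iff_pow_eq_one.1 h3
      exact hu00 (hz u0 ((hpow r).1 h4 u0 hu0U))
  have hirrU := split_irr T U hUinv hUmin
  have hUle : finrank F U ≤ finrank F V := Submodule.finrank_le U
  rcases hUmin (U ⊓ B.orthogonal U) inf_le_left
    (fun w hw => ⟨hUinv w hw.1, hPinv w hw.2⟩) with h | h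
  · -- `U` nondegenerate
    have haltU : ∀ v : U, (B.restrict U) v v = 0 := fun v => halt _
    have hndU : ∀ x : U, (∀ y : U, (B.restrict U) x y = 0) → x = 0 := by
      intro x hx
      have h1 : (x : V) ∈ U ⊓ B.orthogonal U := by
        refine ⟨x.2, alt_mem_orth.mpr fun n hn => ?_⟩
        rw [alt_swap halt]
        have := hx ⟨n, hn⟩
        rw [show B (x : V) n = 0 from this, neg_zero]
      rw [h, Submodule.mem_bot] at h1
      exact Subtype.ext h1
    have heven := even_finrank_add_finrank_ker_of_isAlt (B.restrict U) haltU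
    have hker : ker (B.restrict U) = ⊥ := by
      rw [LinearMap.ker_eq_bot']
      intro x hx
      apply hndU
      intro y
      rw [hx]
      rfl
    rw [hker, finrank_bot, add_zero] at heven
    obtain ⟨e, he⟩ := heven
    have hdich := irr_dich (B.restrict U) haltU hndU (T.restrict hUinv) (fun x y => hT _ _)
      (Nat.pos_of_ne_zero hrs0) hpowU hirrU (e := e) (by omega)
    have he0 : 0 < e := by omega
    have hen : e < 2 * ηl := by omega
    have hQ : 1 ≤ Fintype.card F ^ e := Nat.one_le_pow _ _ Fintype.card_pos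
    rcases hdich with hd | hd
    · obtain ⟨h1, h2⟩ := hdiv _ hd
      exact num_b hηl he0 ((hk e).1 h1) ((hl e).1 h2) hen
    · obtain ⟨h1, h2⟩ := hdiv _ hd
      obtain ⟨h3, h4⟩ := core_arith hr hr2 hQ h1
      obtain ⟨h5, h6⟩ := core_arith hs hs2 hQ h2
      rw [← pow_mul, mul_comm e 2] at h3 h5
      exact num_c hηk hηl he0 ((hk _).1 h3) (fun hh => h4 ((hk e).2 hh)) ((hl _).1 h5)
        (fun hh => h6 ((hl e).2 hh)) hen
  · -- `U` totally isotropic
    have hUP : U ≤ B.orthogonal U := inf_eq_left.mp h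
    have h1 := alt_iso_dim halt hnd U (fun x hx y hy => alt_mem_orth.mp (hUP hy) x hx)
    exact num_b hηl (by omega) hkU hlU (by omega)

end Cfsg.Agent.Lib.Helper66.PSA
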