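import Cfsg.Agent.Lib.Helper66.Suz3Torus

/-!
# SUZ3 rung UNIQ
-/

set_option autoImplicit false
set_option linter.unusedSectionVars false
set_option linter.unusedVariables false
set_option linter.style.haveILetI false

namespace Cfsg.Agent.Lib.Helper66.Suz3

open MulAction Cfsg.Agent.Lib.Helper32.Suz Cfsg.Agent.Lib.Helper54.Zass

variable {G Ω : Type*} [Group G] [Finite G] [MulAction G Ω] [Fintype Ω]
  {a b : Ω} {Q Z E : Subgroup G} {t : G} {q : ℕ}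

theorem fpf_conj {y : G} (hfpf : ∀ c : Ω, y • c ≠ c) (g : G) : ∀ c : Ω, (g⁻¹ * y * g) • c ≠ c := by
  intro c h
  apply hfpf (g • c)
  rw [mul_smul, mul_smul] at h
  calc y • g • c = g • (g⁻¹ • y • g • c) := by rw [smul_inv_smul]
    _ = g • c := by rw [h]

theorem uniq_arith {q : ℕ} (hq : 4 ≤ q) (h : (q + 1) * (q + 1) ∣ q ^ 3 + 1) : False := by
  obtain ⟨k, rfl⟩ : ∃ k, q = k + 2 := ⟨q - 2, by omega⟩
  have e : (k + 2) ^ 3 + 1 = (k + 2 + 1) * ((k + 2 + 1) * k + 3) := by ring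
  rw [e] at h
  have h1 : k + 2 + 1 ∣ (k + 2 + 1) * k + 3 := Nat.dvd_of_mul_dvd_mul_left (by omega) h
  have h2 : k + 2 + 1 ∣ 3 := (Nat.dvd_add_right (dvd_mul_right _ _)).1 h1
  have := Nat.le_of_dvd (by omega) h2
  omega

/-- two subgroups of a commutative centraliser meeting trivially -/
theorem card_mul_dvd_centralizer {y : G} (A B : Subgroup G)
    (hA : ∀ x ∈ A, x * y = y * x) (hB : ∀ x ∈ B, x * y = y * x)
    (hcomm : ∀ x x' : G, x * y = y * x → x' * y = y * x' → x * x' = x' * x)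
    (hAB : ∀ x ∈ A, x ∈ B → x = 1) :
    Nat.card A * Nat.card B ∣ Nat.card (Subgroup.centralizer ({y} : Set G)) := by
  have hmem : ∀ x : G, x * y = y * x → x ∈ Subgroup.centralizer ({y} : Set G) := by
    intro x hx
    rw [Subgroup.mem_centralizer_iff]
    intro h hh
    rw [Set.mem_singleton_iff.1 hh]
    exact hx.symm
  let φ : A × B →* G := MonoidHom.noncommCoprod A.subtype B.subtype
    (fun m n => hcomm _ _ (hA m.1 m.2) (hB n.1 n.2))
  have hφ : ∀ p : A × B, φ p = p.1.1 * p.2.1 := fun p => rfl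
  have hr : ∀ p : A × B, φ p ∈ Subgroup.centralizer ({y} : Set G) := by
    intro p
    rw [hφ]
    exact Subgroup.mul_mem _ (hmem _ (hA _ p.1.2)) (hmem _ (hB _ p.2.2))
  let ψ : A × B →* Subgroup.centralizer ({y} : Set G) := φ.codRestrict _ hr
  have hinj : Function.Injective ψ := by
    rw [injective_iff_map_eq_one]
    intro p hp
    have h1 : p.1.1 * p.2.1 = 1 := congrArg Subtype.val hp
    have h2 : p.1.1 = p.2.1⁻¹ := eq_inv_of_mul_eq_one_left h1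
    have h3 : p.1.1 = 1 := hAB _ p.1.2 (h2 ▸ B.inv_mem p.2.2)
    have h4 : p.2.1 = 1 := by rw [h3, one_mul] at h1; exact h1
    exact Prod.ext (Subtype.ext h3) (Subtype.ext h4)
  have := Subgroup.card_dvd_of_injective ψ hinj
  rwa [Nat.card_prod] at this

theorem block_unique (D : ZT a b Q Z E t q) {f : G} (hf : f ∈ Z) (hfix : t • (f • b) = f • b)
    (hcard : Nat.card Q = q ^ 3) {y g : G} (hy : y ∈ stabSet G (blk a b Z))
    (hfpf : ∀ c : Ω, y • c ≠ c) (hyg : g⁻¹ * y * g ∈ stabSet G (blk a b Z)) :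
    g ∈ stabSet G (blk a b Z) := by
  by_contra hg
  have steiner := @Cfsg.Agent.Lib.Helper71.Suz3.steiner G Ω _ _ _ _ a b Q Z E t q D f hf hfix
  have invol_mem := @Cfsg.Agent.Lib.Helper71.Suz3.invol_mem G Ω _ _ _ _ a b Q Z E t q D f hf hfix
  have fix_mem := @Cfsg.Agent.Lib.Helper71.Suz3.fix_mem G Ω _ _ _ _ a b Q Z E t q D f hf hfix
  have haΔ : a ∈ blk a b Z := Or.inl rfl
  have hbΔ : b ∈ blk a b Z := Or.inr ⟨1, Z.one_mem, one_smul _ _⟩
  -- Step 1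
  have hdisj : ∀ c ∈ blk a b Z, g • c ∉ blk a b Z := by
    intro c hc hgc
    apply hg
    have h1 : (g⁻¹ * y * g) • c ∈ blk a b Z := (hyg c).2 hc
    have h2 : g • ((g⁻¹ * y * g) • c) ∈ blk a b Z := by
      rw [mul_smul, mul_smul, smul_inv_smul]
      exact (hy _).2 hgc
    exact steiner g (fpf_conj hfpf g c).symm hc h1 hgc h2
  -- Step 2
  obtain ⟨⟨s1, hs1Y, hss1, hs11, hs1y⟩, A1, hA1Y, hA1c, hA1card⟩ := exists_torus D hf hfix hy hfpf
  obtain ⟨⟨s2', hs2Y, hss2', hs21', hs2y'⟩, -⟩ := exists_torus D hf hfix hyg (fpf_conj hfpf g)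
  obtain ⟨s2, hs2def⟩ : ∃ s2, s2 = g * s2' * g⁻¹ := ⟨_, rfl⟩
  have hss2 : s2 * s2 = 1 := by
    rw [hs2def]
    calc g * s2' * g⁻¹ * (g * s2' * g⁻¹) = g * (s2' * s2') * g⁻¹ := by group
      _ = 1 := by rw [hss2']; group
  have hs21 : s2 ≠ 1 := by
    intro h
    apply hs21'
    calc s2' = g⁻¹ * (g * s2' * g⁻¹) * g := by group
      _ = 1 := by rw [← hs2def, h]; group
  have hs2y : s2 * y * s2⁻¹ = y⁻¹ := by
    rw [hs2def]
    calc g * s2' * g⁻¹ * y * (g * s2' * g⁻¹)⁻¹ = g * (s2' * (g⁻¹ * y * g) * s2'⁻¹) * g⁻¹ := by group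
      _ = y⁻¹ := by rw [hs2y']; group
  obtain ⟨p1, hp1, hu1⟩ := invol_fix D hss1 hs11
  obtain ⟨p2', hp2', -⟩ := invol_fix D hss2' hs21'
  have hp1Δ : p1 ∈ blk a b Z := fix_mem hs1Y hs11 hp1
  have hp2Δ' : p2' ∈ blk a b Z := fix_mem hs2Y hs21' hp2'
  obtain ⟨p2, hp2def⟩ : ∃ p2, p2 = g • p2' := ⟨_, rfl⟩
  have hp2 : s2 • p2 = p2 := by
    rw [hs2def, hp2def, mul_smul, mul_smul, inv_smul_smul, hp2']
  have hp2Δ : p2 ∉ blk a b Z := hp2def ▸ hdisj p2' hp2Δ'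
  have hp12 : p1 ≠ p2 := fun h => hp2Δ (h ▸ hp1Δ)
  -- Step 3
  obtain ⟨c, hcdef⟩ : ∃ c, c = s1 * s2 := ⟨_, rfl⟩
  have hcy : c * y = y * c := hcdef ▸ commute_of_two_inverting hs1y hs2y
  have hi1 : s1⁻¹ = s1 := inv_eq_of_mul_eq_one_left hss1
  have hi2 : s2⁻¹ = s2 := inv_eq_of_mul_eq_one_left hss2
  have hc1 : c ≠ 1 := by
    intro h
    have h1 : s1 = s2 := by
      calc s1 = s1 * (s2 * s2) := by rw [hss2, mul_one]
        _ = s2 := by rw [← mul_assoc, ← hcdef, h, one_mul]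
    exact hp12 (hu1 p2 (h1 ▸ hp2)).symm
  obtain ⟨hCcomm, hCfree, hCdvd⟩ := cent_of_inverted D hfpf hss1 hs11 hs1y
  have hcf : ∀ d : Ω, c • d ≠ d := hCfree c hcy hc1
  have hs1c : s1 * c * s1⁻¹ = c⁻¹ := by
    rw [hcdef, mul_inv_rev, hi1, hi2, ← mul_assoc, hss1, one_mul]
  -- Step 4
  obtain ⟨g3, hg3a, hg3b⟩ := two_trans D.h2 D.hab hp12
  have hconj_mem : ∀ s : G, s * s = 1 → ∀ e ∈ blk a b Z, s • (g3 • e) = g3 • e →
      g3⁻¹ * s * g3 ∈ stabSet G (blk a b Z) := by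
    intro s hs e he hse
    refine invol_mem (s := g3⁻¹ * s * g3) ?_ he ?_
    · calc g3⁻¹ * s * g3 * (g3⁻¹ * s * g3) = g3⁻¹ * (s * s) * g3 := by group
        _ = 1 := by rw [hs]; group
    · rw [mul_smul, mul_smul, hse, inv_smul_smul]
  have hc'Y : g3⁻¹ * c * g3 ∈ stabSet G (blk a b Z) := by
    have h1 := hconj_mem s1 hss1 a haΔ (by rw [hg3a, hp1])
    have h2 := hconj_mem s2 hss2 b hbΔ (by rw [hg3b, hp2])
    have h3 : g3⁻¹ * c * g3 = (g3⁻¹ * s1 * g3) * (g3⁻¹ * s2 * g3) := by rw [hcdef]; group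
    rw [h3]
    exact Subgroup.mul_mem _ h1 h2
  obtain ⟨-, A3', hA3Y, hA3c, hA3card⟩ := exists_torus D hf hfix hc'Y (fpf_conj hcf g3)
  obtain ⟨A3, hA3def⟩ : ∃ A3 : Subgroup G, A3 = A3'.map (MulAut.conj g3).toMonoidHom := ⟨_, rfl⟩
  have hmemA3 : ∀ x : G, x ∈ A3 ↔ g3⁻¹ * x * g3 ∈ A3' := by
    intro x
    rw [hA3def, Subgroup.mem_map]
    constructor
    · rintro ⟨w, hw, rfl⟩
      have : g3⁻¹ * ((MulAut.conj g3).toMonoidHom w) * g3 = w := by
        change g3⁻¹ * (g3 * w * g3⁻¹) * g3 = w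
        group
      rw [this]; exact hw
    · intro h
      refine ⟨_, h, ?_⟩
      change g3 * (g3⁻¹ * x * g3) * g3⁻¹ = x
      group
  have hA3card' : Nat.card A3 = q + 1 := by
    rw [hA3def, ← hA3card]
    exact Subgroup.card_map_of_injective (MulAut.conj g3).injective
  have hA3cy : ∀ x ∈ A3, x * y = y * x := by
    intro x hx
    have h1 := hA3c _ ((hmemA3 x).1 hx)
    have h2 : x * c = c * x := by
      calc x * c = g3 * ((g3⁻¹ * x * g3) * (g3⁻¹ * c * g3)) * g3⁻¹ := by group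
        _ = g3 * ((g3⁻¹ * c * g3) * (g3⁻¹ * x * g3)) * g3⁻¹ := by rw [h1]
        _ = c * x := by group
    exact (cent_of_inverted D hcf hss1 hs11 hs1c).1 x y h2 hcy.symm
  -- Step 5
  have hA13 : ∀ x ∈ A1, x ∈ A3 → x = 1 := by
    intro x hx1 hx3
    by_contra hx
    have hxf := hCfree x (hA1c x hx1) hx
    have hxY : x ∈ stabSet G (blk a b Z) := hA1Y hx1
    have hxY' : g3⁻¹ * x * g3 ∈ stabSet G (blk a b Z) := hA3Y ((hmemA3 x).1 hx3)
    have h1 : x • p1 ∈ blk a b Z := (hxY p1).2 hp1Δ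
    have h2 : (g3⁻¹ * x * g3) • a ∈ blk a b Z := (hxY' a).2 haΔ
    have h3 : g3 • ((g3⁻¹ * x * g3) • a) = x • p1 := by
      rw [mul_smul, mul_smul, smul_inv_smul, hg3a]
    have h4 : a ≠ (g3⁻¹ * x * g3) • a := by
      intro h
      apply hxf p1
      rw [← h3, ← h, hg3a]
    have h5 : g3 ∈ stabSet G (blk a b Z) :=
      steiner g3 h4 haΔ h2 (by rw [hg3a]; exact hp1Δ) (by rw [h3]; exact h1)
    exact hp2Δ (hg3b ▸ (h5 b).2 hbΔ)
  -- Step 6, 7
  have h6 := (card_mul_dvd_centralizer A1 A3 hA1c hA3cy hCcomm hA13).trans hCdvd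
  rw [hA1card, hA3card', ← D.Qcard, hcard] at h6
  exact uniq_arith D.hq h6

end Cfsg.Agent.Lib.Helper66.Suz3
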