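import Mathlib
import Cfsg.Agent.Lib.Helper61.ZassDefs
import Cfsg.Agent.Lib.Helper38.ZassB
import Cfsg.Agent.Lib.Helper38.ZassD
import Cfsg.Agent.S2970
import Cfsg.Agent.S3378

set_option autoImplicit false
set_option linter.style.haveILetI false
set_option linter.unusedSectionVars false

/-!
# Rung H of the Zassenhaus ladder
-/

namespace Cfsg.Agent.Lib.Helper66.Zass

open Cfsg.Agent.Lib.Helper61.Zass Cfsg.Agent.Lib.Helper38.Zass Subgroup

/-- a perfect group has no nontrivial solvable image -/
theorem hom_trivial_of_perfect {H Q : Type*} [Group H] [Group Q] (hperf : commutator H = ⊤)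
    (f : H →* Q) (hQ : Group.IsSolvable f.range) : ∀ h, f h = 1 := by
  by_contra hcon
  push Not at hcon
  obtain ⟨h, hh⟩ := hcon
  haveI : Nontrivial f.range :=
    ⟨⟨⟨f h, ⟨h, rfl⟩⟩, 1, fun e => hh (congrArg Subtype.val e)⟩⟩
  have h1 := Group.IsSolvable.commutator_lt_top_of_nontrivial f.range
  apply h1.ne
  have h2 := Subgroup.map_commutator (⊤ : Subgroup H) ⊤ f.rangeRestrict
  rw [Subgroup.map_top_of_surjective _ f.rangeRestrict_surjective, ← commutator_def,
    ← commutator_def, hperf, Subgroup.map_top_of_surjective _ f.rangeRestrict_surjective] at h2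
  exact h2.symm

/-- a perfect group has no nontrivial homomorphism to a group of order `< 60` -/
theorem hom_trivial_of_perfect_of_lt {H Q : Type*} [Group H] [Group Q] [Finite Q]
    (hperf : commutator H = ⊤) (f : H →* Q) (hQ : Nat.card Q < 60) : ∀ h, f h = 1 := by
  apply hom_trivial_of_perfect hperf
  exact Cfsg.Agent.S3378.solvable_of_lt _ f.range rfl
    (lt_of_le_of_lt (Subgroup.card_le_card_group _) hQ)

/-- the subgroups of order three -/
abbrev Sub3 (H : Type*) [Group H] := {K : Subgroup H // Nat.card K = 3}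

instance sub3Action (H : Type*) [Group H] : MulAction H (Sub3 H) where
  smul g K := ⟨K.1.map (MulAut.conj g).toMonoidHom, by
    rw [Subgroup.card_map_of_injective (MulAut.conj g).injective]; exact K.2⟩
  one_smul K := by
    apply Subtype.ext
    change K.1.map (MulAut.conj (1 : H)).toMonoidHom = K.1
    rw [map_one]
    exact Subgroup.map_id _
  mul_smul g h K := by
    apply Subtype.ext
    change K.1.map (MulAut.conj (g * h)).toMonoidHom =
      (K.1.map (MulAut.conj h).toMonoidHom).map (MulAut.conj g).toMonoidHom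
    rw [Subgroup.map_map, map_mul]
    rfl

theorem zpowers_eq_of_mem {H : Type*} [Group H] [Finite H] {K : Subgroup H} (hK : Nat.card K = 3)
    {v : H} (hv : orderOf v = 3) (hvK : v ∈ K) : zpowers v = K := by
  apply Subgroup.eq_of_le_of_card_ge (zpowers_le.2 hvK)
  rw [Nat.card_zpowers, hv, hK]

theorem normal_of_few {H : Type*} [Group H] [Finite H] (hperf : commutator H = ⊤)
    (A : Fin 4 → Subgroup H) (hAc : ∀ i, Nat.card (A i) = 3)
    (hA : ∀ v : H, orderOf v = 3 → ∃ i, v ∈ A i) (x : H) (hx : orderOf x = 3) :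
    ∀ g : H, g * x * g⁻¹ ∈ zpowers x := by
  have hsurj : Function.Surjective (fun i : Fin 4 => (⟨A i, hAc i⟩ : Sub3 H)) := by
    rintro ⟨K, hK⟩
    haveI : Fact (Nat.Prime 3) := ⟨Nat.prime_three⟩
    obtain ⟨v, hv⟩ := exists_prime_orderOf_dvd_card' (G := K) 3 (by rw [hK])
    have hv' : orderOf (v : H) = 3 := by rw [Subgroup.orderOf_coe]; exact hv
    obtain ⟨i, hi⟩ := hA v hv'
    refine ⟨i, Subtype.ext ?_⟩
    change A i = K
    rw [← zpowers_eq_of_mem (hAc i) hv' hi, zpowers_eq_of_mem hK hv' v.2]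
  have hcard : Nat.card (Sub3 H) ≤ 4 := by
    have := Nat.card_le_card_of_surjective _ hsurj
    rwa [Nat.card_fin] at this
  have hperm : Nat.card (Equiv.Perm (Sub3 H)) < 60 := by
    rw [Nat.card_perm]
    calc (Nat.card (Sub3 H)).factorial ≤ (4 : ℕ).factorial := Nat.factorial_le hcard
      _ < 60 := by decide
  have htriv := hom_trivial_of_perfect_of_lt hperf (MulAction.toPermHom H (Sub3 H)) hperm
  intro g
  have h1 := congrArg (fun σ : Equiv.Perm (Sub3 H) =>
    (σ ⟨zpowers x, by rw [Nat.card_zpowers, hx]⟩ : Sub3 H).1) (htriv g)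
  have h2 : (zpowers x).map (MulAut.conj g).toMonoidHom = zpowers x := h1
  rw [← h2]
  exact ⟨x, mem_zpowers x, rfl⟩

/-- **Rung H.** -/
theorem exists_NC_of_perfect {H : Type*} [Group H] [Finite H] [Nontrivial H] (hFR : HasFreeRep H)
    (hperf : commutator H = ⊤)
    (hN1 : ∀ x y : H, orderOf x = 3 → orderOf y = 3 → y = x ∨ y = x⁻¹ ∨ orderOf (x * y) = 4 ∨
      orderOf (x * y⁻¹) = 4 ∨ orderOf (x * y) = 10)
    (hG : ∀ x y : H, orderOf x = 3 → orderOf y = 3 → orderOf (x * y) = 4 →
      (∀ u v : H, orderOf u = 3 → orderOf v = 3 → orderOf (u * v) ≠ 10) →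
      ∀ v, orderOf v = 3 → v ∈ Subgroup.zpowers x ∨ v ∈ Subgroup.zpowers y ∨
        v ∈ Subgroup.zpowers (x⁻¹ * y * x) ∨ v ∈ Subgroup.zpowers (x * y * x⁻¹)) :
    ∃ y w : H, orderOf y = 3 ∧ orderOf w = 3 ∧ orderOf (y * w) = 10 := by
  by_contra hcon
  push Not at hcon
  haveI : Fact (Nat.Prime 3) := ⟨Nat.prime_three⟩
  have hnsol : ¬ Group.IsSolvable H := fun hs =>
    (Group.IsSolvable.commutator_lt_top_of_nontrivial H).ne hperf
  have h3 : 3 ∣ Nat.card H := by
    by_contra h
    exact hnsol (solvable_of_three_not_dvd (fun p _ P => D3 hFR p P) h)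
  obtain ⟨x, hx⟩ := exists_prime_orderOf_dvd_card' 3 h3
  have hconj3 : ∀ (g v : H), orderOf v = 3 → orderOf (g * v * g⁻¹) = 3 := by
    intro g v hv
    rw [← hv]
    exact (MulAut.conj g).orderOf_eq v
  have hnorm : ∀ g : H, g * x * g⁻¹ ∈ zpowers x := by
    by_cases hall : ∀ v : H, orderOf v = 3 → v ∈ zpowers x
    · intro g
      exact hall _ (hconj3 g x hx)
    · push Not at hall
      obtain ⟨y, hy, hyx⟩ := hall
      obtain ⟨y', hy', hxy'⟩ : ∃ y' : H, orderOf y' = 3 ∧ orderOf (x * y') = 4 := by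
        rcases hN1 x y hx hy with h | h | h | h | h
        · exact absurd (h ▸ mem_zpowers x) hyx
        · exact absurd (h ▸ inv_mem (mem_zpowers x)) hyx
        · exact ⟨y, hy, h⟩
        · exact ⟨y⁻¹, by rw [orderOf_inv]; exact hy, h⟩
        · exact absurd h (hcon x y hx hy)
      have hfour := hG x y' hx hy' hxy' hcon
      have e1 : orderOf (x⁻¹ * y' * x) = 3 := by
        have := hconj3 x⁻¹ y' hy'
        rwa [inv_inv] at this
      apply normal_of_few hperf
        ![zpowers x, zpowers y', zpowers (x⁻¹ * y' * x), zpowers (x * y' * x⁻¹)] ?_ ?_ x hx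
      · intro i
        fin_cases i
        · change Nat.card (zpowers x) = 3
          rw [Nat.card_zpowers, hx]
        · change Nat.card (zpowers y') = 3
          rw [Nat.card_zpowers, hy']
        · change Nat.card (zpowers (x⁻¹ * y' * x)) = 3
          rw [Nat.card_zpowers, e1]
        · change Nat.card (zpowers (x * y' * x⁻¹)) = 3
          rw [Nat.card_zpowers, hconj3 x y' hy']
      · intro v hv
        rcases hfour v hv with h | h | h | h
        · exact ⟨0, h⟩
        · exact ⟨1, h⟩
        · exact ⟨2, h⟩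
        · exact ⟨3, h⟩
  -- `x` is central
  haveI hXn : (zpowers x).Normal := by
    constructor
    intro n hn g
    obtain ⟨k, rfl⟩ := mem_zpowers_iff.1 hn
    rw [← conj_zpow]
    exact zpow_mem (hnorm g) k
  have hcen : ∀ g : H, g * x = x * g := by
    intro g
    have hlt : Nat.card (Equiv.Perm (zpowers x)) < 60 := by
      rw [Nat.card_perm, Nat.card_zpowers, hx]; decide
    have h1 := hom_trivial_of_perfect_of_lt hperf
      ((MulAut.toPerm (zpowers x)).comp (MulAut.conjNormal (H := zpowers x))) hlt g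
    have h2 := congrArg (fun σ : Equiv.Perm (zpowers x) =>
      ((σ ⟨x, mem_zpowers x⟩ : zpowers x) : H)) h1
    have h4 : g * x * g⁻¹ = x := h2
    exact mul_inv_eq_iff_eq_mul.1 h4
  -- transfer
  have hx3 : IsPGroup 3 (zpowers x) := by
    apply IsPGroup.of_card (n := 1)
    rw [Nat.card_zpowers, hx, pow_one]
  obtain ⟨P, hP⟩ := hx3.exists_le_sylow
  have hxP : x ∈ (P : Subgroup H) := hP (mem_zpowers x)
  have hx1 : x ≠ 1 := by
    rintro rfl
    rw [orderOf_one] at hx
    omega
  have hcyc : IsCyclic (P : Subgroup H) := by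
    rcases D3 hFR 3 P with h | ⟨n, ⟨e⟩⟩
    · exact h
    · exfalso
      obtain ⟨k, hk⟩ := IsPGroup.iff_card.1 P.2
      have h1 := Nat.card_congr e.toEquiv
      haveI : NeZero (2 ^ n) := ⟨by positivity⟩
      rw [hk, Nat.card_eq_fintype_card (α := QuaternionGroup (2 ^ n)), QuaternionGroup.card] at h1
      have h2 : Odd (3 ^ k) := Odd.pow (by decide)
      rw [h1] at h2
      exact (Nat.not_odd_iff_even.2 ⟨2 * 2 ^ n, by ring⟩) h2
  have hNC := Cfsg.Agent.S2970.normalizer_le_centralizer_of_cyclic P hcyc hxP hx1 (by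
    intro g _
    rw [mem_centralizer_singleton_iff]
    exact hcen g)
  have hsolP : Group.IsSolvable (P : Subgroup H) := by
    haveI := P.2.isNilpotent
    infer_instance
  have htr := hom_trivial_of_perfect hperf (MonoidHom.transferSylow P hNC) inferInstance
  have hker : (MonoidHom.transferSylow P hNC).ker = ⊤ := by
    rw [eq_top_iff]
    intro g _
    exact htr g
  have hcompl := MonoidHom.ker_transferSylow_isComplement' P hNC
  rw [hker, isComplement'_top_left] at hcompl
  rw [hcompl, mem_bot] at hxP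
  exact hx1 hxP

end Cfsg.Agent.Lib.Helper66.Zass
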